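import Mathlib

/-! Normal forms in `R[[x, y]]/(xy - r)`. -/

set_option autoImplicit false

noncomputable section

universe u

open MvPowerSeries IsLocalRing

namespace Groth.Agent.NodeSeriesLib

variable {R : Type u} [CommRing R]

/-- The exponent `(p, q)`. -/
def idx (p q : ℕ) : Fin 2 →₀ ℕ := Finsupp.single 0 p + Finsupp.single 1 q

@[simp] lemma idx_zero (p q : ℕ) : idx p q 0 = p := by simp [idx]
@[simp] lemma idx_one (p q : ℕ) : idx p q 1 = q := by simp [idx]

lemma idx_self (n : Fin 2 →₀ ℕ) : idx (n 0) (n 1) = n :=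
  Finsupp.ext fun i => by fin_cases i <;> simp

lemma idx_inj {p q p' q' : ℕ} : idx p q = idx p' q' ↔ p = p' ∧ q = q' :=
  ⟨fun h => ⟨by simpa using DFunLike.congr_fun h 0, by simpa using DFunLike.congr_fun h 1⟩,
    fun h => by rw [h.1, h.2]⟩

lemma ext_idx {F G : MvPowerSeries (Fin 2) R}
    (h : ∀ p q, coeff (idx p q) F = coeff (idx p q) G) : F = G :=
  MvPowerSeries.ext fun n => by rw [← idx_self n]; exact h _ _

variable [IsNoetherianRing R] [IsLocalRing R] [IsAdicComplete (maximalIdeal R) R]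
  {r : R} (hr : r ∈ maximalIdeal R)

omit [IsAdicComplete (maximalIdeal R) R] in
lemma eq_zero_of_forall_pow {x : R} (h : ∀ n : ℕ, x ∈ maximalIdeal R ^ n) : x = 0 := by
  have hx : x ∈ (⨅ n : ℕ, maximalIdeal R ^ n) := by simpa [Ideal.mem_iInf] using h
  rwa [Ideal.iInf_pow_eq_bot_of_isLocalRing _ (IsLocalRing.maximalIdeal.isMaximal R).ne_top] at hx

include hr in
omit [IsNoetherianRing R] in
lemma exists_geomSum (f : ℕ → R) : ∃ L : R, ∀ n : ℕ,
    L - ∑ j ∈ Finset.range n, f j * r ^ j ∈ maximalIdeal R ^ n := by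
  obtain ⟨L, hL⟩ := IsPrecomplete.prec' (I := maximalIdeal R)
    (fun n => ∑ j ∈ Finset.range n, f j * r ^ j) (fun {m n} hmn => by
      rw [SModEq.sub_mem, smul_eq_mul, Ideal.mul_top,
        ← Finset.sum_range_add_sum_Ico _ hmn]
      rw [sub_add_cancel_left, neg_mem_iff]
      refine Ideal.sum_mem _ fun j hj => Ideal.mul_mem_left _ _ ?_
      exact Ideal.pow_le_pow_right (Finset.mem_Ico.1 hj).1 (Ideal.pow_mem_pow hr j))
  refine ⟨L, fun n => ?_⟩
  have := SModEq.sub_mem.1 (hL n)
  rw [smul_eq_mul, Ideal.mul_top] at this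
  simpa using neg_mem this

/-- `∑ⱼ f j * r ^ j`. -/
def geomSum (f : ℕ → R) : R := Classical.choose (exists_geomSum hr f)

omit [IsNoetherianRing R] in
lemma geomSum_spec (f : ℕ → R) (n : ℕ) :
    geomSum hr f - ∑ j ∈ Finset.range n, f j * r ^ j ∈ maximalIdeal R ^ n :=
  Classical.choose_spec (exists_geomSum hr f) n

lemma geomSum_succ (f : ℕ → R) : geomSum hr f = f 0 + r * geomSum hr (fun j => f (j + 1)) := by
  refine sub_eq_zero.1 (eq_zero_of_forall_pow fun n => ?_)
  have h1 := Ideal.pow_le_pow_right (Nat.le_succ n) (geomSum_spec hr f (n + 1))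
  have h2 := Ideal.mul_mem_left _ r (geomSum_spec hr (fun j => f (j + 1)) n)
  have key : geomSum hr f - (f 0 + r * geomSum hr (fun j => f (j + 1)))
      = (geomSum hr f - ∑ j ∈ Finset.range (n + 1), f j * r ^ j)
        - r * (geomSum hr (fun j => f (j + 1)) - ∑ j ∈ Finset.range n, f (j + 1) * r ^ j) := by
    rw [Finset.sum_range_succ', mul_sub, Finset.mul_sum, pow_zero, mul_one]
    have : ∀ j, f (j + 1) * r ^ (j + 1) = r * (f (j + 1) * r ^ j) := fun j => by ring
    simp only [this]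
    ring
  rw [key]; exact sub_mem h1 h2

/-- `T G (p, q) = ∑ⱼ G_(p + j, q + j) r ^ j`. -/
def T (G : MvPowerSeries (Fin 2) R) (p q : ℕ) : R :=
  geomSum hr fun j => coeff (idx (p + j) (q + j)) G

lemma T_rec (G : MvPowerSeries (Fin 2) R) (p q : ℕ) :
    T hr G p q = coeff (idx p q) G + r * T hr G (p + 1) (q + 1) := by
  rw [T, geomSum_succ]
  simp only [add_zero, T]
  congr 3
  funext j
  rw [show p + (j + 1) = p + 1 + j by omega, show q + (j + 1) = q + 1 + j by omega]

lemma T_unique {G : MvPowerSeries (Fin 2) R} {S : ℕ → ℕ → R}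
    (hS : ∀ p q, S p q = coeff (idx p q) G + r * S (p + 1) (q + 1)) (p q : ℕ) :
    S p q = T hr G p q := by
  refine sub_eq_zero.1 (eq_zero_of_forall_pow fun n => ?_)
  induction n generalizing p q with
  | zero => simp
  | succ n ih =>
    rw [hS, T_rec hr, add_sub_add_left_eq_sub, ← mul_sub, pow_succ']
    exact Ideal.mul_mem_mul hr (ih _ _)

/-- Iterated recursion. -/
lemma T_iterate (G : MvPowerSeries (Fin 2) R) (p q n : ℕ) :
    T hr G p q = ∑ j ∈ Finset.range n, coeff (idx (p + j) (q + j)) G * r ^ j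
      + r ^ n * T hr G (p + n) (q + n) := by
  induction n with
  | zero => simp
  | succ n ih =>
    rw [ih, T_rec hr G (p + n) (q + n), Finset.sum_range_succ, add_assoc p, add_assoc q]
    ring

variable (r) in
/-- The equation `xy - r`. -/
def eqn : MvPowerSeries (Fin 2) R := X 0 * X 1 - C r

omit [IsNoetherianRing R] [IsLocalRing R] [IsAdicComplete (maximalIdeal R) R] in
lemma coeff_eqn_mul (H : MvPowerSeries (Fin 2) R) (p q : ℕ) :
    coeff (idx p q) (eqn r * H) =
      (if p = 0 ∨ q = 0 then 0 else coeff (idx (p - 1) (q - 1)) H) - r * coeff (idx p q) H := by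
  rw [eqn, sub_mul, map_sub, coeff_C_mul, X_def, X_def, monomial_mul_monomial, one_mul,
    coeff_monomial_mul, one_mul]
  congr 1
  by_cases h : Finsupp.single (0 : Fin 2) 1 + Finsupp.single 1 1 ≤ idx p q
  · have h0 := h 0; have h1 := h 1
    simp at h0 h1
    rw [if_pos h, if_neg (by omega)]
    congr 2
    exact Finsupp.ext fun i => by fin_cases i <;> simp [idx]
  · rw [if_neg h, if_pos ?_]
    by_contra hc
    refine h fun i => ?_
    fin_cases i <;> simp [idx] <;> omega

/-- Two series with the same normal form are congruent modulo `xy - r`. -/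
lemma mem_span_of_T_eq {G G' : MvPowerSeries (Fin 2) R}
    (hx : ∀ p, T hr G p 0 = T hr G' p 0) (hy : ∀ q, T hr G 0 q = T hr G' 0 q) :
    G - G' ∈ Ideal.span {eqn r} := by
  refine Ideal.mem_span_singleton'.2
    ⟨(fun n => T hr G (n 0 + 1) (n 1 + 1) - T hr G' (n 0 + 1) (n 1 + 1) : MvPowerSeries (Fin 2) R), ?_⟩
  rw [mul_comm]
  refine ext_idx fun p q => ?_
  set H : MvPowerSeries (Fin 2) R :=
    fun n => T hr G (n 0 + 1) (n 1 + 1) - T hr G' (n 0 + 1) (n 1 + 1)
  have hH : ∀ a b, coeff (idx a b) H = T hr G (a + 1) (b + 1) - T hr G' (a + 1) (b + 1) := fun a b => by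
    show T hr G (idx a b 0 + 1) (idx a b 1 + 1) - T hr G' (idx a b 0 + 1) (idx a b 1 + 1) = _
    simp
  rw [coeff_eqn_mul, map_sub]; simp only [hH]
  by_cases h : p = 0 ∨ q = 0
  · rw [if_pos h]
    have : T hr G p q = T hr G' p q := by rcases h with rfl | rfl <;> [exact hy q; exact hx p]
    rw [T_rec hr G, T_rec hr G'] at this
    linear_combination -this
  · rw [if_neg h, Nat.sub_add_cancel (by omega : 1 ≤ p), Nat.sub_add_cancel (by omega : 1 ≤ q),
      T_rec hr G p q, T_rec hr G' p q]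
    ring

lemma T_eqn_mul (H : MvPowerSeries (Fin 2) R) (p q : ℕ) :
    T hr (eqn r * H) p q = if p = 0 ∨ q = 0 then 0 else coeff (idx (p - 1) (q - 1)) H := by
  refine (T_unique hr (S := fun p q => if p = 0 ∨ q = 0 then 0 else coeff (idx (p - 1) (q - 1)) H)
    (fun a b => ?_) p q).symm
  rw [coeff_eqn_mul, if_neg (by omega : ¬ (a + 1 = 0 ∨ b + 1 = 0))]
  simp

lemma T_sub (G G' : MvPowerSeries (Fin 2) R) (p q : ℕ) :
    T hr (G - G') p q = T hr G p q - T hr G' p q := by
  refine (T_unique hr (S := fun a b => T hr G a b - T hr G' a b) (fun a b => ?_) p q).symm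
  simp only [map_sub]
  rw [T_rec hr G, T_rec hr G']; ring

lemma T_eq_of_mem_span {G G' : MvPowerSeries (Fin 2) R} (h : G - G' ∈ Ideal.span {eqn r})
    {p q : ℕ} (hpq : p = 0 ∨ q = 0) : T hr G p q = T hr G' p q := by
  obtain ⟨H, hH⟩ := Ideal.mem_span_singleton'.1 h
  have := T_sub hr G G' p q
  rw [← hH, mul_comm, T_eqn_mul, if_pos hpq] at this
  exact sub_eq_zero.1 this.symm

lemma T_C (s : R) (p q : ℕ) : T hr (C s) p q = if p = 0 ∧ q = 0 then s else 0 := by
  refine (T_unique hr (S := fun a b => if a = 0 ∧ b = 0 then s else 0) (fun a b => ?_) p q).symm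
  rw [MvPowerSeries.coeff_C, if_neg (by omega : ¬ (a + 1 = 0 ∧ b + 1 = 0)), mul_zero, add_zero]
  have : idx a b = 0 ↔ a = 0 ∧ b = 0 := by
    rw [show (0 : Fin 2 →₀ ℕ) = idx 0 0 by simp [idx], idx_inj]
  simp [this]

lemma T_C_mul (b : R) (G : MvPowerSeries (Fin 2) R) (p q : ℕ) :
    T hr (C b * G) p q = b * T hr G p q := by
  refine (T_unique hr (S := fun a c => b * T hr G a c) (fun a c => ?_) p q).symm
  rw [coeff_C_mul, T_rec hr G a c]; ring

omit [IsNoetherianRing R] [IsLocalRing R] [IsAdicComplete (maximalIdeal R) R] in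
lemma coeff_X_pow_mul (G : MvPowerSeries (Fin 2) R) (n p q : ℕ) :
    coeff (idx p q) (X 0 ^ n * G) = if n ≤ p then coeff (idx (p - n) q) G else 0 := by
  rw [X_pow_eq, coeff_monomial_mul, one_mul]
  by_cases h : n ≤ p
  · rw [if_pos h, if_pos (by simpa [Finsupp.single_le_iff] using h)]
    congr 2
    exact Finsupp.ext fun i => by fin_cases i <;> simp [idx]
  · rw [if_neg h, if_neg (by simpa [Finsupp.single_le_iff] using h)]

lemma T_X_pow_mul (G : MvPowerSeries (Fin 2) R) (n p q : ℕ) :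
    T hr (X 0 ^ n * G) p q =
      if n ≤ p then T hr G (p - n) q else r ^ (n - p) * T hr G 0 (q + (n - p)) := by
  refine (T_unique hr (S := fun a b =>
    if n ≤ a then T hr G (a - n) b else r ^ (n - a) * T hr G 0 (b + (n - a))) (fun a b => ?_) p q).symm
  rw [coeff_X_pow_mul]
  by_cases h : n ≤ a
  · rw [if_pos h, if_pos h, if_pos (by omega : n ≤ a + 1), T_rec hr G,
      show a + 1 - n = a - n + 1 by omega]
  · rw [if_neg h, if_neg h]
    by_cases h' : n ≤ a + 1
    · rw [if_pos h', show a + 1 - n = 0 by omega, show n - a = 1 by omega, pow_one, zero_add]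
    · rw [if_neg h', show n - a = n - (a + 1) + 1 by omega,
        show b + (n - (a + 1) + 1) = b + 1 + (n - (a + 1)) by omega, pow_succ']
      ring

/-- The series in normal form with prescribed coefficients. -/
def nf (e f : ℕ → R) : MvPowerSeries (Fin 2) R :=
  fun n => if n 1 = 0 then e (n 0) else if n 0 = 0 then f (n 1) else 0

omit [IsNoetherianRing R] [IsLocalRing R] [IsAdicComplete (maximalIdeal R) R] in
lemma coeff_nf (e f : ℕ → R) (p q : ℕ) :
    coeff (idx p q) (nf e f) = if q = 0 then e p else if p = 0 then f q else 0 := by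
  show nf e f (idx p q) = _
  simp [nf]

lemma T_nf (e f : ℕ → R) (p q : ℕ) :
    T hr (nf e f) p q = if q = 0 then e p else if p = 0 then f q else 0 := by
  refine (T_unique hr (S := fun a b => if b = 0 then e a else if a = 0 then f b else 0)
    (fun a b => ?_) p q).symm
  rw [coeff_nf, if_neg (Nat.succ_ne_zero b), if_neg (Nat.succ_ne_zero a), mul_zero, add_zero]

/-- The swap `x ↔ y`. -/
def swapXY : MvPowerSeries (Fin 2) R ≃ₐ[R] MvPowerSeries (Fin 2) R :=
  renameEquiv R (Equiv.swap (0 : Fin 2) 1)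

omit [IsNoetherianRing R] [IsLocalRing R] [IsAdicComplete (maximalIdeal R) R] in
lemma coeff_swapXY (G : MvPowerSeries (Fin 2) R) (p q : ℕ) :
    coeff (idx p q) (swapXY G) = coeff (idx q p) G := by
  have h := coeff_embDomain_rename (R := R) (Equiv.swap (0 : Fin 2) 1).toEmbedding G (idx q p)
  have e : Finsupp.embDomain (Equiv.swap (0 : Fin 2) 1).toEmbedding (idx q p) = idx p q := by
    simp [idx, Finsupp.embDomain_add, Finsupp.embDomain_single, add_comm]
  rw [e] at h
  exact h

omit [IsNoetherianRing R] [IsLocalRing R] [IsAdicComplete (maximalIdeal R) R] in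
lemma swapXY_eqn : swapXY (eqn r) = eqn r := by
  refine ext_idx fun p q => ?_
  have h1 := coeff_eqn_mul (r := r) 1 p q
  have h2 := coeff_eqn_mul (r := r) 1 q p
  rw [mul_one] at h1 h2
  rw [coeff_swapXY, h1, h2]
  simp only [or_comm, MvPowerSeries.coeff_one,
    show (0 : Fin 2 →₀ ℕ) = idx 0 0 by simp [idx], idx_inj, and_comm]

lemma T_swapXY (G : MvPowerSeries (Fin 2) R) (p q : ℕ) :
    T hr (swapXY G) p q = T hr G q p := by
  refine (T_unique hr (S := fun a b => T hr G b a) (fun a b => ?_) p q).symm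
  rw [coeff_swapXY, ← T_rec hr G]

omit [IsNoetherianRing R] [IsLocalRing R] [IsAdicComplete (maximalIdeal R) R] in
lemma swapXY_mem_span {G : MvPowerSeries (Fin 2) R} (h : G ∈ Ideal.span {eqn r}) :
    swapXY G ∈ Ideal.span {eqn r} := by
  obtain ⟨H, rfl⟩ := Ideal.mem_span_singleton'.1 h
  exact Ideal.mem_span_singleton'.2 ⟨swapXY H, by rw [map_mul, swapXY_eqn]⟩

/-- The coefficient of `x ^ k` (`k ∈ ℤ`) after the substitution `y = r / x`. -/
def d (G : MvPowerSeries (Fin 2) R) (k : ℤ) : R := r ^ (-k).toNat * T hr G k.toNat (-k).toNat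

lemma d_natCast (G : MvPowerSeries (Fin 2) R) (p : ℕ) : d hr G p = T hr G p 0 := by
  simp [d]

lemma d_neg_natCast (G : MvPowerSeries (Fin 2) R) (q : ℕ) :
    d hr G (-(q : ℤ)) = r ^ q * T hr G 0 q := by
  simp [d]

lemma d_C (s : R) (k : ℤ) : d hr (C s) k = if k = 0 then s else 0 := by
  rw [d, T_C]
  by_cases h : k = 0
  · subst h; simp
  · rw [if_neg h, if_neg (by omega), mul_zero]

lemma d_congr {G G' : MvPowerSeries (Fin 2) R} (h : G - G' ∈ Ideal.span {eqn r}) (k : ℤ) :
    d hr G k = d hr G' k := by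
  rw [d, d, T_eq_of_mem_span hr h (by omega)]

lemma pow_dvd_d (G : MvPowerSeries (Fin 2) R) (q : ℕ) : r ^ q ∣ d hr G (-(q : ℤ)) :=
  ⟨_, d_neg_natCast hr G q⟩

/-- The coefficient `k` of `∑_{j < N} r ^ j x ^ (- j) G_j`, where `G_j` is the `y ^ j` slice. -/
lemma d_modEq (G : MvPowerSeries (Fin 2) R) (k : ℤ) (N : ℕ) :
    r ^ N ∣ d hr G k - ∑ j ∈ (Finset.range N).filter (fun j : ℕ => 0 ≤ k + (j : ℤ)),
      coeff (idx (k + j).toNat j) G * r ^ j := by
  rcases le_or_gt 0 k with hk | hk
  · lift k to ℕ using hk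
    rw [Finset.filter_true_of_mem (fun (j : ℕ) _ => by omega), d_natCast, T_iterate hr G k 0 N]
    refine ⟨T hr G (k + N) (0 + N), ?_⟩
    have : ∀ j : ℕ, ((k : ℤ) + j).toNat = k + j := fun j => by omega
    simp only [this, zero_add]; ring
  · obtain ⟨q, rfl⟩ : ∃ q : ℕ, k = -(q : ℤ) := ⟨(-k).toNat, by omega⟩
    rw [d_neg_natCast]
    rcases le_or_gt N q with hN | hN
    · rw [Finset.filter_false_of_mem (fun (j : ℕ) hj => by have := Finset.mem_range.1 hj; omega),
        Finset.sum_empty, sub_zero]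
      exact Dvd.dvd.mul_right (pow_dvd_pow r hN) _
    · obtain ⟨i, rfl⟩ : ∃ i, N = q + i := ⟨N - q, by omega⟩
      have hfil : (Finset.range (q + i)).filter (fun j : ℕ => 0 ≤ -(q : ℤ) + j)
          = Finset.Ico q (q + i) := by
        ext j; simp only [Finset.mem_filter, Finset.mem_range, Finset.mem_Ico]; omega
      rw [hfil, Finset.sum_Ico_eq_sum_range, Nat.add_sub_cancel_left, T_iterate hr G 0 q i]
      refine ⟨T hr G (0 + i) (q + i), ?_⟩
      have : ∀ j : ℕ, (-(q : ℤ) + ((q + j : ℕ) : ℤ)).toNat = j := fun j => by omega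
      simp only [this, zero_add, mul_add, Finset.mul_sum, pow_add]
      have e : ∀ j : ℕ, coeff (idx j (q + j)) G * (r ^ q * r ^ j)
          = r ^ q * (coeff (idx j (q + j)) G * r ^ j) := fun j => by ring
      simp only [e]; ring

/-- The slice of `y ^ j`, as a power series in `x`. -/
def slice (G : MvPowerSeries (Fin 2) R) (j : ℕ) : PowerSeries R :=
  PowerSeries.mk fun i => coeff (idx i j) G

omit [IsNoetherianRing R] [IsLocalRing R] [IsAdicComplete (maximalIdeal R) R] in
lemma slice_mul (F G : MvPowerSeries (Fin 2) R) (j : ℕ) :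
    slice (F * G) j = ∑ x ∈ Finset.HasAntidiagonal.antidiagonal j, slice F x.1 * slice G x.2 := by
  classical
  refine PowerSeries.ext fun i => ?_
  rw [slice, PowerSeries.coeff_mk, MvPowerSeries.coeff_mul, map_sum]
  simp only [PowerSeries.coeff_mul, slice, PowerSeries.coeff_mk]
  rw [← Finset.sum_product']
  refine Finset.sum_bij' (fun a _ => ((a.1 1, a.2 1), (a.1 0, a.2 0)))
    (fun b _ => (idx b.2.1 b.1.1, idx b.2.2 b.1.2)) ?_ ?_ ?_ ?_ ?_
  · intro a ha
    rw [Finset.HasAntidiagonal.mem_antidiagonal] at ha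
    have h0 := DFunLike.congr_fun ha 0; have h1 := DFunLike.congr_fun ha 1
    simp at h0 h1
    simp [h0, h1]
  · intro b hb
    simp only [Finset.mem_product, Finset.HasAntidiagonal.mem_antidiagonal] at hb
    rw [Finset.HasAntidiagonal.mem_antidiagonal]
    exact Finsupp.ext fun x => by fin_cases x <;> simp [hb.1, hb.2]
  · intro a _; simp [idx_self]
  · intro b _; simp
  · intro a _; simp [idx_self]

/-- `x ^ N` times the truncated substitution `y = r / x`. -/
def psi (r : R) (N : ℕ) (G : MvPowerSeries (Fin 2) R) : PowerSeries R :=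
  ∑ j ∈ Finset.range N, PowerSeries.C (r ^ j) * PowerSeries.X ^ (N - j) * slice G j

omit [IsNoetherianRing R] [IsLocalRing R] [IsAdicComplete (maximalIdeal R) R] in
lemma psi_mul (N : ℕ) (F G : MvPowerSeries (Fin 2) R) :
    ∃ E, psi r N F * psi r N G - PowerSeries.X ^ N * psi r N (F * G) = PowerSeries.C (r ^ N) * E := by
  classical
  set g : ℕ × ℕ → PowerSeries R := fun x => PowerSeries.C (r ^ (x.1 + x.2)) *
    PowerSeries.X ^ (N - x.1 + (N - x.2)) * (slice F x.1 * slice G x.2) with hg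
  have h1 : psi r N F * psi r N G = ∑ x ∈ Finset.range N ×ˢ Finset.range N, g x := by
    rw [psi, psi, Finset.sum_mul_sum, ← Finset.sum_product']
    refine Finset.sum_congr rfl fun x _ => ?_
    simp only [hg, pow_add, map_mul]; ring
  have h2 : PowerSeries.X ^ N * psi r N (F * G)
      = ∑ x ∈ (Finset.range N ×ˢ Finset.range N).filter (fun x => x.1 + x.2 < N), g x := by
    rw [← Finset.sum_fiberwise_of_maps_to (t := Finset.range N) (g := fun x : ℕ × ℕ => x.1 + x.2)
      (fun x hx => Finset.mem_range.2 (Finset.mem_filter.1 hx).2), psi, Finset.mul_sum]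
    refine Finset.sum_congr rfl fun j hj => ?_
    rw [slice_mul, Finset.mul_sum, Finset.mul_sum]
    refine Finset.sum_congr ?_ fun x hx => ?_
    · ext x
      simp only [Finset.HasAntidiagonal.mem_antidiagonal, Finset.mem_filter, Finset.mem_product, Finset.mem_range]
      have := Finset.mem_range.1 hj
      omega
    · simp only [Finset.mem_filter, Finset.mem_product, Finset.mem_range] at hx
      simp only [hg, hx.2]
      rw [show N - x.1 + (N - x.2) = N + (N - j) by omega, pow_add]; ring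
  rw [h1, h2, ← Finset.sum_filter_add_sum_filter_not
    (Finset.range N ×ˢ Finset.range N) (fun x => x.1 + x.2 < N), add_sub_cancel_left]
  refine ⟨∑ x ∈ (Finset.range N ×ˢ Finset.range N).filter (fun x => ¬ x.1 + x.2 < N),
    PowerSeries.C (r ^ (x.1 + x.2 - N)) * PowerSeries.X ^ (N - x.1 + (N - x.2)) *
      (slice F x.1 * slice G x.2), ?_⟩
  rw [Finset.mul_sum]
  refine Finset.sum_congr rfl fun x hx => ?_
  simp only [Finset.mem_filter] at hx
  simp only [hg, ← mul_assoc, ← map_mul, ← pow_add, show N + (x.1 + x.2 - N) = x.1 + x.2 by omega]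

lemma coeff_psi (G : MvPowerSeries (Fin 2) R) (N i : ℕ) :
    r ^ N ∣ d hr G ((i : ℤ) - N) - PowerSeries.coeff i (psi r N G) := by
  have h := d_modEq hr G ((i : ℤ) - N) N
  convert h using 2
  rw [psi, map_sum, Finset.sum_filter]
  refine Finset.sum_congr rfl fun j hj => ?_
  have hj' := Finset.mem_range.1 hj
  rw [mul_assoc, PowerSeries.coeff_C_mul, PowerSeries.coeff_X_pow_mul']
  by_cases hle : N - j ≤ i
  · rw [if_pos hle, if_pos (by omega), slice, PowerSeries.coeff_mk,
      show ((i : ℤ) - N + j).toNat = i - (N - j) by omega, mul_comm]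
  · rw [if_neg hle, if_neg (by omega), mul_zero]

/-- The convolution formula for `d`, modulo `r ^ N`. -/
lemma d_mul (F G : MvPowerSeries (Fin 2) R) (N i : ℕ) :
    r ^ N ∣ d hr (F * G) ((i : ℤ) - N) - ∑ x ∈ Finset.HasAntidiagonal.antidiagonal (i + N),
      d hr F ((x.1 : ℤ) - N) * d hr G ((x.2 : ℤ) - N) := by
  obtain ⟨E, hE⟩ := psi_mul (r := r) N F G
  have h := congrArg (PowerSeries.coeff (i + N)) hE
  rw [map_sub, PowerSeries.coeff_mul, add_comm i N, PowerSeries.coeff_X_pow_mul', if_pos (by omega),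
    Nat.add_sub_cancel_left, PowerSeries.coeff_C_mul] at h
  have h3 : r ^ N ∣ ∑ x ∈ Finset.HasAntidiagonal.antidiagonal (N + i), (PowerSeries.coeff x.1 (psi r N F) *
      PowerSeries.coeff x.2 (psi r N G) - d hr F ((x.1 : ℤ) - N) * d hr G ((x.2 : ℤ) - N)) := by
    refine Finset.dvd_sum fun x _ => ?_
    obtain ⟨a, ha⟩ := coeff_psi hr F N x.1
    obtain ⟨b, hb⟩ := coeff_psi hr G N x.2
    refine ⟨-(a * d hr G ((x.2 : ℤ) - N) + PowerSeries.coeff x.1 (psi r N F) * b), ?_⟩
    linear_combination (-d hr G ((x.2 : ℤ) - N)) * ha - PowerSeries.coeff x.1 (psi r N F) * hb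
  rw [Finset.sum_sub_distrib] at h3
  obtain ⟨a, ha⟩ := coeff_psi hr (F * G) N i
  obtain ⟨b, hb⟩ := h3
  rw [add_comm i N]
  exact ⟨a + b - PowerSeries.coeff (N + i) E, by linear_combination ha + hb - h⟩

end Groth.Agent.NodeSeriesLib
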