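import Mathlib
import Groth.Agent.NodeSeriesLib.Basic
import Groth.Agent.RegLocal.Basic
import Groth.Agent.RegLocal.UFD

/-! Contents of the substituted series. -/

set_option autoImplicit false

noncomputable section

universe u

open MvPowerSeries IsLocalRing

namespace Groth.Agent.NodeSeriesLib

/-- A valuation on a Noetherian domain that is positive on `ρ` and archimedean with respect to it. -/
lemma exists_valuationSubring {D : Type u} [CommRing D] [IsDomain D] [IsNoetherianRing D]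
    {ρ : D} (hρ : ¬ IsUnit ρ) :
    ∃ V : ValuationSubring (FractionRing D),
      (∀ x, V.valuation (algebraMap D _ x) ≤ 1) ∧ V.valuation (algebraMap D _ ρ) < 1 ∧
      ∀ e : D, e ≠ 0 → ∃ n : ℕ,
        V.valuation (algebraMap D _ ρ) ^ n < V.valuation (algebraMap D _ e) := by
  classical
  set K := FractionRing D
  have hinj := IsFractionRing.injective D K
  by_cases h0 : ρ = 0
  · refine ⟨⊤, fun x => (ValuationSubring.valuation_le_one_iff _ _).2 trivial, by simp [h0],
      fun e he => ⟨1, ?_⟩⟩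
    subst h0
    simp only [map_zero, pow_one]
    exact zero_lt_iff.2 ((Valuation.ne_zero_iff _).2 fun h => he (hinj (by rw [h, map_zero])))
  obtain ⟨q, hq⟩ := Ideal.nonempty_minimalPrimes (I := Ideal.span {ρ})
    (by rwa [Ne, Ideal.span_singleton_eq_top])
  haveI hqp : q.IsPrime := hq.1.1
  have hρq : ρ ∈ q := hq.1.2 (Ideal.mem_span_singleton_self ρ)
  have hht : q.height ≤ 1 := by
    haveI : (Ideal.span {ρ}).IsPrincipal := ⟨⟨ρ, rfl⟩⟩
    exact Ideal.height_le_one_of_isPrincipal_of_mem_minimalPrimes _ _ hq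
  let A : Subring K := (algebraMap D K).range
  let q' : Ideal A := q.map (algebraMap D K).rangeRestrict
  haveI : q'.IsPrime := Ideal.map_isPrime_of_surjective (algebraMap D K).rangeRestrict_surjective
    (fun x hx => by
      have : algebraMap D K x = 0 := congrArg Subtype.val (RingHom.mem_ker.1 hx)
      rw [hinj (by rw [this, map_zero] : algebraMap D K x = algebraMap D K 0)]
      exact q.zero_mem)
  obtain ⟨V, hV⟩ := (LocalSubring.ofPrime A q').exists_le_valuationSubring
  have hAV : A ≤ V.toSubring := (LocalSubring.le_ofPrime ..).trans hV.1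
  have hle : ∀ x, V.valuation (algebraMap D K x) ≤ 1 := fun x =>
    (ValuationSubring.valuation_le_one_iff _ _).2 (hAV ⟨x, rfl⟩)
  -- units outside `q`
  have hout : ∀ x, x ∉ q → V.valuation (algebraMap D K x) = 1 := by
    intro x hx
    let a : A := (algebraMap D K).rangeRestrict x
    have ha : a ∉ q' := fun h => hx (by
      obtain ⟨y, hy, hxy⟩ := (Ideal.mem_map_iff_of_surjective _
        (algebraMap D K).rangeRestrict_surjective).1 h
      rwa [← hinj (congrArg Subtype.val hxy)])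
    have hu : IsUnit (algebraMap A (LocalSubring.ofPrime A q').toSubring a) :=
      IsLocalization.map_units _ (⟨a, ha⟩ : q'.primeCompl)
    exact ValuationSubring.valuation_eq_one_iff V ⟨algebraMap D K x, hAV ⟨x, rfl⟩⟩ |>.1
      (hu.map (Subring.inclusion hV.1))
  -- `ρ` is not a unit in `V`
  have hlt : V.valuation (algebraMap D K ρ) < 1 := by
    refine lt_of_le_of_ne (hle ρ) fun h1 => ?_
    have hVu := (ValuationSubring.valuation_eq_one_iff V ⟨algebraMap D K ρ, hAV ⟨ρ, rfl⟩⟩).2 h1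
    haveI : IsLocalHom (Subring.inclusion hV.1) := hV.2
    let a : A := (algebraMap D K).rangeRestrict ρ
    have hu : IsUnit (algebraMap A (LocalSubring.ofPrime A q').toSubring a) :=
      IsUnit.of_map (Subring.inclusion hV.1) _ hVu
    rw [IsLocalization.AtPrime.isUnit_to_map_iff _ q'] at hu
    exact hu (Ideal.mem_map_of_mem _ hρq)
  refine ⟨V, hle, hlt, fun e he => ?_⟩
  -- every nonzero element divides a power of `ρ` up to an element outside `q`
  by_cases hdis : Disjoint (Ideal.span {e} : Set D) (q.primeCompl ⊔ Submonoid.powers ρ : Submonoid D)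
  · exfalso
    obtain ⟨p, hp, hep, hpd⟩ := Ideal.exists_le_prime_disjoint _ _ hdis
    have hpq : p ≤ q := fun x hx => by
      by_contra hxq
      exact Set.disjoint_left.1 hpd hx (Submonoid.mem_sup_left hxq)
    have hρp : ρ ∉ p := fun h =>
      Set.disjoint_left.1 hpd h (Submonoid.mem_sup_right (Submonoid.mem_powers ρ))
    have hlt' : p < q := lt_of_le_of_ne hpq (fun h => hρp (h ▸ hρq))
    have h1 : p.height < 1 := by
      refine lt_of_lt_of_le ?_ hht
      haveI := hp
      haveI : q.FiniteHeight := Ideal.finiteHeight_of_le le_rfl hqp.ne_top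
      exact Ideal.height_strict_mono_of_isPrime hlt'
    rw [Order.lt_one_iff, Ideal.height_eq_zero_iff_eq_bot] at h1
    rw [h1] at hep
    exact he (by simpa using hep (Ideal.mem_span_singleton_self e))
  · obtain ⟨z, hz, hz'⟩ := Set.not_disjoint_iff.1 hdis
    obtain ⟨c, rfl⟩ := Ideal.mem_span_singleton.1 hz
    obtain ⟨u, hu, w, hw, hmul⟩ := Submonoid.mem_sup.1 hz'
    obtain ⟨n, rfl⟩ := hw
    refine ⟨n + 1, ?_⟩
    have h2 := congrArg (fun x => V.valuation (algebraMap D K x)) hmul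
    simp only [map_mul, map_pow, hout u hu, one_mul] at h2
    have hne : V.valuation (algebraMap D K ρ) ≠ 0 :=
      (Valuation.ne_zero_iff _).2 fun h => h0 (hinj (by rw [h, map_zero]))
    calc V.valuation (algebraMap D K ρ) ^ (n + 1) < V.valuation (algebraMap D K ρ) ^ n := by
          rw [pow_succ]; exact mul_lt_of_lt_one_right (zero_lt_iff.2 (pow_ne_zero _ hne)) hlt
      _ ≤ V.valuation (algebraMap D K e) := by
          rw [h2]; exact mul_le_of_le_one_right' (hle c)

/-- Leading index: the smallest among those of maximal value. -/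
lemma exists_leading {D : Type u} [CommRing D] [IsDomain D] [IsNoetherianRing D]
    {ρ : D} (V : ValuationSubring (FractionRing D))
    (hle : ∀ x, V.valuation (algebraMap D _ x) ≤ 1) (hlt : V.valuation (algebraMap D _ ρ) < 1)
    (harch : ∀ e : D, e ≠ 0 → ∃ n : ℕ,
      V.valuation (algebraMap D _ ρ) ^ n < V.valuation (algebraMap D _ e))
    (e : ℤ → D) (he : ∃ k, e k ≠ 0) (hneg : ∃ a : ℕ, ∀ j : ℕ, a < j → ρ ^ j ∣ e (-(j : ℤ))) :
    ∃ k₀, e k₀ ≠ 0 ∧
      (∀ k, V.valuation (algebraMap D _ (e k)) ≤ V.valuation (algebraMap D _ (e k₀))) ∧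
      ∀ k < k₀, V.valuation (algebraMap D _ (e k)) < V.valuation (algebraMap D _ (e k₀)) := by
  classical
  set w : D → _ := fun x => V.valuation (algebraMap D (FractionRing D) x) with hw
  obtain ⟨S, hSsub, hS⟩ := (Submodule.fg_span_iff_fg_span_finset_subset (Set.range e)).1
    (IsNoetherian.noetherian (Submodule.span D (Set.range e)))
  have hSne : S.Nonempty := by
    by_contra h
    rw [Finset.not_nonempty_iff_eq_empty] at h
    obtain ⟨k, hk⟩ := he
    have : e k ∈ Submodule.span D (Set.range e) := Submodule.subset_span ⟨k, rfl⟩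
    rw [hS, h] at this
    simp at this
    exact hk this
  obtain ⟨x₀, hx₀, hmax⟩ := S.exists_max_image w hSne
  have hall : ∀ x ∈ Submodule.span D (Set.range e), w x ≤ w x₀ := by
    intro x hx
    rw [hS] at hx
    induction hx using Submodule.span_induction with
    | mem y hy => exact hmax y hy
    | zero => simp [hw]
    | add y z _ _ h1 h2 =>
      simp only [hw, map_add]
      exact (Valuation.map_add _ _ _).trans (max_le h1 h2)
    | smul a y _ h1 =>
      simp only [hw, smul_eq_mul, map_mul]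
      exact (mul_le_of_le_one_left' (hle a)).trans h1
  obtain ⟨k₁, rfl⟩ := hSsub hx₀
  obtain ⟨k, hk⟩ := he
  have hk1 : e k₁ ≠ 0 := fun h => by
    have := hall (e k) (Submodule.subset_span ⟨k, rfl⟩)
    simp [hw, h] at this
    exact hk this
  obtain ⟨n, hn⟩ := harch (e k₁) hk1
  obtain ⟨a, ha⟩ := hneg
  have hbd : ∃ b : ℤ, ∀ z : ℤ, w (e z) = w (e k₁) → b ≤ z := by
    refine ⟨-((max a n : ℕ) : ℤ), fun z hz => ?_⟩
    by_contra hzb
    obtain ⟨j, rfl⟩ : ∃ j : ℕ, z = -(j : ℤ) := ⟨(-z).toNat, by omega⟩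
    obtain ⟨c, hc⟩ := ha j (by omega)
    refine absurd hz (ne_of_lt ?_)
    simp only [hw, hc, map_mul, map_pow]
    calc _ ≤ V.valuation (algebraMap D (FractionRing D) ρ) ^ j := mul_le_of_le_one_right' (hle c)
      _ ≤ V.valuation (algebraMap D (FractionRing D) ρ) ^ n :=
          pow_le_pow_right_of_le_one' hlt.le (by omega)
      _ < _ := hn
  obtain ⟨k₀, hk₀, hmin⟩ := Int.exists_least_of_bdd (P := fun z => w (e z) = w (e k₁)) hbd ⟨k₁, rfl⟩
  refine ⟨k₀, fun h => hk1 ?_, fun z => ?_, fun z hz => ?_⟩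
  · have : w (e k₁) = 0 := by rw [← hk₀]; simp [hw, h]
    exact IsFractionRing.injective D (FractionRing D) (by
      rw [map_zero]; exact (Valuation.zero_iff _).1 this)
  · exact (hall _ (Submodule.subset_span ⟨z, rfl⟩)).trans_eq hk₀.symm
  · refine lt_of_le_of_ne ((hall _ (Submodule.subset_span ⟨z, rfl⟩)).trans_eq hk₀.symm) fun h => ?_
    exact absurd (hmin z (h.trans hk₀)) (by omega)

variable {R : Type u} [CommRing R] [IsDomain R] [IsNoetherianRing R] [IsLocalRing R]
  [IsAdicComplete (maximalIdeal R) R] {r : R} (hr : r ∈ maximalIdeal R)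

/-- A prime power dividing all coefficients of `G * G'` divides all the products `d k * d' l`. -/
lemma pow_dvd_d_mul_d {G G' : MvPowerSeries (Fin 2) R}
    {π : R} (hπ : Prime π) (m : ℕ) (hm : ∀ n, π ^ m ∣ d hr (G * G') n)
    (k l : ℤ) : π ^ m ∣ d hr G k * d hr G' l := by
  classical
  by_cases hα : ∀ k, π ^ m ∣ d hr G k
  · exact (hα k).mul_right _
  by_cases hβ : ∀ l, π ^ m ∣ d hr G' l
  · exact (hβ l).mul_left _
  -- contents
  have hcont : ∀ F : MvPowerSeries (Fin 2) R, (¬ ∀ k, π ^ m ∣ d hr F k) →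
      ∃ α < m, (∀ k, π ^ α ∣ d hr F k) ∧ ∃ k, ¬ π ^ (α + 1) ∣ d hr F k := by
    intro F hF
    have hex : ∃ a, ¬ ∀ k, π ^ a ∣ d hr F k := ⟨m, hF⟩
    have h0 : Nat.find hex ≠ 0 := fun h0 => Nat.find_spec hex (fun k => by rw [h0, pow_zero]; exact one_dvd _)
    refine ⟨Nat.find hex - 1, ?_, ?_, ?_⟩
    · have := Nat.find_le (h := hex) hF; omega
    · exact not_not.1 (Nat.find_min hex (by omega : Nat.find hex - 1 < Nat.find hex))
    · rw [show Nat.find hex - 1 + 1 = Nat.find hex by omega]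
      exact not_forall.1 (Nat.find_spec hex)
  obtain ⟨α, hαm, hαd, hα'⟩ := hcont G hα
  obtain ⟨β, hβm, hβd, hβ'⟩ := hcont G' hβ
  by_cases hαβ : m ≤ α + β
  · exact (pow_dvd_pow π hαβ).trans (by rw [pow_add]; exact mul_dvd_mul (hαd k) (hβd l))
  exfalso
  choose e he using hαd
  choose e' he' using hβd
  -- reduce modulo `π`
  haveI : (Ideal.span {π}).IsPrime := (Ideal.span_singleton_prime hπ.ne_zero).2 hπ
  let φ : R →+* R ⧸ Ideal.span {π} := Ideal.Quotient.mk _
  have hφ : ∀ x, φ x = 0 ↔ π ∣ x := fun x => by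
    rw [Ideal.Quotient.eq_zero_iff_mem, Ideal.mem_span_singleton]
  have hρ : ¬ IsUnit (φ r) := by
    intro hu
    obtain ⟨x, hx⟩ := isUnit_iff_exists_inv.1 hu
    obtain ⟨x, rfl⟩ := Ideal.Quotient.mk_surjective x
    rw [← map_mul, ← map_one φ, Ideal.Quotient.eq] at hx
    have hπm : π ∈ maximalIdeal R := hπ.not_unit
    have h1 : r * x - 1 ∈ maximalIdeal R :=
      (Ideal.span_singleton_le_iff_mem _).2 hπm hx
    exact (maximalIdeal R).ne_top_iff_one.1 (IsLocalRing.maximalIdeal.isMaximal R).ne_top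
      (by simpa using sub_mem (Ideal.mul_mem_right x _ hr) h1)
  obtain ⟨V, hle, hlt, harch⟩ := exists_valuationSubring hρ
  have hneg : ∀ (F : MvPowerSeries (Fin 2) R) (a : ℕ) (f : ℤ → R),
      (∀ k, d hr F k = π ^ a * f k) → ∀ j : ℕ, a < j → φ r ^ j ∣ φ (f (-(j : ℤ))) := by
    intro F a f hf j hj
    obtain ⟨c, hc⟩ := pow_dvd_d hr F j
    rw [hf] at hc
    by_cases hπr : π ∣ r
    · obtain ⟨t, ht⟩ := (pow_dvd_pow π hj).trans ((pow_dvd_pow_of_dvd hπr j).mul_right c)
      rw [← hc, pow_succ, mul_assoc] at ht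
      have := mul_left_cancel₀ (pow_ne_zero a hπ.ne_zero) ht
      rw [(hφ _).2 ⟨t, this⟩]; exact dvd_zero _
    · obtain ⟨t, rfl⟩ := hπ.pow_dvd_of_dvd_mul_left a (fun h => hπr (hπ.dvd_of_dvd_pow h)) ⟨_, hc.symm⟩
      have : f (-(j : ℤ)) = r ^ j * t :=
        mul_left_cancel₀ (pow_ne_zero a hπ.ne_zero) (by rw [hc]; ring)
      rw [this, map_mul, map_pow]; exact Dvd.intro _ rfl
  have hne : ∀ (F : MvPowerSeries (Fin 2) R) (a : ℕ) (f : ℤ → R),
      (∀ k, d hr F k = π ^ a * f k) → (∃ k, ¬ π ^ (a + 1) ∣ d hr F k) → ∃ k, φ (f k) ≠ 0 := by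
    rintro F a f hf ⟨k, hk⟩
    refine ⟨k, fun h0 => hk ?_⟩
    rw [hf, pow_succ]; exact mul_dvd_mul_left _ ((hφ _).1 h0)
  obtain ⟨k₀, hk₀, hk₀le, hk₀lt⟩ := exists_leading V hle hlt harch (fun k => φ (e k))
    (hne G α e he hα') ⟨α, hneg G α e he⟩
  obtain ⟨l₀, hl₀, hl₀le, hl₀lt⟩ := exists_leading V hle hlt harch (fun k => φ (e' k))
    (hne G' β e' he' hβ') ⟨β, hneg G' β e' he'⟩
  set w : R → _ := fun x => V.valuation (algebraMap _ (FractionRing (R ⧸ Ideal.span {π})) (φ x))
    with hw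
  obtain ⟨n₀, hn₀⟩ := harch (φ (e k₀) * φ (e' l₀)) (mul_ne_zero hk₀ hl₀)
  set N : ℕ := n₀ + α + β + 1 + k₀.natAbs + l₀.natAbs with hN
  set i : ℕ := (k₀ + l₀ + N).toNat with hi
  have hmul := d_mul hr G G' N i
  set Sg : R := ∑ x ∈ Finset.HasAntidiagonal.antidiagonal (i + N),
    e ((x.1 : ℤ) - N) * e' ((x.2 : ℤ) - N) with hS
  have hsum : ∑ x ∈ Finset.HasAntidiagonal.antidiagonal (i + N),
      d hr G ((x.1 : ℤ) - N) * d hr G' ((x.2 : ℤ) - N) = π ^ (α + β) * Sg := by
    rw [hS, Finset.mul_sum]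
    refine Finset.sum_congr rfl fun x _ => ?_
    rw [he, he']; ring
  rw [hsum] at hmul
  obtain ⟨t, ht⟩ := hmul
  -- `Sg ≡ 0` modulo `π` and `r ^ N`
  have hdvd : φ r ^ N ∣ φ Sg := by
    obtain ⟨s', hs'⟩ : π ^ (α + β + 1) ∣ d hr (G * G') ((i : ℤ) - N) :=
      (pow_dvd_pow π (by omega)).trans (hm _)
    have h1 : π ^ (α + β) * (π * s' - Sg) = r ^ N * t := by rw [← ht, hs', pow_succ]; ring
    by_cases hπr : π ∣ r
    · obtain ⟨c, hc⟩ := (pow_dvd_pow π (show α + β + 1 ≤ N by omega)).trans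
        ((pow_dvd_pow_of_dvd hπr N).mul_right t)
      rw [← h1, pow_succ, mul_assoc] at hc
      have h2 := mul_left_cancel₀ (pow_ne_zero _ hπ.ne_zero) hc
      rw [(hφ Sg).2 ⟨s' - c, by linear_combination -h2⟩]
      exact dvd_zero _
    · obtain ⟨c, rfl⟩ := hπ.pow_dvd_of_dvd_mul_left (α + β)
        (fun h => hπr (hπ.dvd_of_dvd_pow h)) ⟨_, h1.symm⟩
      have h2 : π * s' - Sg = r ^ N * c :=
        mul_left_cancel₀ (pow_ne_zero (α + β) hπ.ne_zero) (by rw [h1]; ring)
      refine ⟨-φ c, ?_⟩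
      have h3 : Sg = π * s' - r ^ N * c := by rw [← h2]; ring
      rw [h3, map_sub, map_mul, map_mul, map_pow, (hφ π).2 dvd_rfl]; ring
  have hwS : w Sg = w (e k₀) * w (e' l₀) := by
    simp only [hw, hS, map_sum, map_mul]
    rw [← map_mul]
    have hmem : ((k₀ + N).toNat, (l₀ + N).toNat) ∈ Finset.HasAntidiagonal.antidiagonal (i + N) := by
      rw [Finset.HasAntidiagonal.mem_antidiagonal]; omega
    rw [Valuation.map_sum_eq_of_lt _ hmem]
    · rw [show (((k₀ + N).toNat : ℕ) : ℤ) - N = k₀ by omega,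
        show (((l₀ + N).toNat : ℕ) : ℤ) - N = l₀ by omega]
    · intro x hx
      have hxs := Finset.HasAntidiagonal.mem_antidiagonal.1 (Finset.mem_sdiff.1 hx).1
      have hxne : x ≠ ((k₀ + N).toNat, (l₀ + N).toNat) := fun h =>
        (Finset.mem_sdiff.1 hx).2 (Finset.mem_singleton.2 h)
      rw [show (((k₀ + N).toNat : ℕ) : ℤ) - N = k₀ by omega,
        show (((l₀ + N).toNat : ℕ) : ℤ) - N = l₀ by omega]
      simp only [map_mul]
      have hkk : (x.1 : ℤ) - N < k₀ ∨ (x.2 : ℤ) - N < l₀ := by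
        by_contra hc
        refine hxne (Prod.ext ?_ ?_) <;> dsimp only <;> omega
      have hk0' := (Valuation.ne_zero_iff V.valuation).2
        fun h => hk₀ (IsFractionRing.injective _ (FractionRing _) (h.trans (map_zero _).symm))
      have hl0' := (Valuation.ne_zero_iff V.valuation).2
        fun h => hl₀ (IsFractionRing.injective _ (FractionRing _) (h.trans (map_zero _).symm))
      rcases hkk with hk | hl
      · exact (mul_le_mul_right (hl₀le _) _).trans_lt (mul_lt_mul_of_pos_right (hk₀lt _ hk) (zero_lt_iff.2 hl0'))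
      · exact (mul_le_mul_left (hk₀le _) _).trans_lt (mul_lt_mul_of_pos_left (hl₀lt _ hl) (zero_lt_iff.2 hk0'))
  obtain ⟨c, hc⟩ := hdvd
  have hwle : w Sg ≤ V.valuation (algebraMap _ (FractionRing (R ⧸ Ideal.span {π})) (φ r)) ^ n₀ := by
    simp only [hw, hc, map_mul, map_pow]
    exact (mul_le_of_le_one_right' (hle c)).trans (pow_le_pow_right_of_le_one' hlt.le (by omega))
  rw [hwS] at hwle
  simp only [hw, ← map_mul] at hwle
  rw [← map_mul] at hn₀
  exact absurd hn₀ (not_lt.2 hwle)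

omit [IsLocalRing R] [IsAdicComplete (maximalIdeal R) R] [IsNoetherianRing R] in
lemma dvd_of_prime_pow_dvd [UniqueFactorizationMonoid R] {S x : R} (hS : S ≠ 0)
    (h : ∀ π, Prime π → ∀ m, π ^ m ∣ S → π ^ m ∣ x) : S ∣ x := by
  suffices ∀ s : R, s ∣ S → s ∣ x from this S dvd_rfl
  intro s
  refine UniqueFactorizationMonoid.induction_on_coprime s ?_ ?_ ?_ ?_
  · exact fun h0 => absurd (zero_dvd_iff.1 h0) hS
  · exact fun hu _ => hu.dvd
  · exact fun i hp hi => h _ hp i hi
  · exact fun hc h1 h2 hxy =>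
      hc.mul_dvd (h1 ((dvd_mul_right _ _).trans hxy)) (h2 ((dvd_mul_left _ _).trans hxy))

end Groth.Agent.NodeSeriesLib
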