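import Mathlib
import Groth.Agent.NodeSeriesLib.Basic
import Groth.Agent.NodeSeriesLib.Content

/-! The fibral primes of `R[[x, y]]/(xy - r)`. -/

set_option autoImplicit false

noncomputable section

universe u

open MvPowerSeries IsLocalRing

namespace Groth.Agent.NodeSeriesLib

variable {R : Type u} [CommRing R]

/-- Restriction to the `i`-axis, modulo `I`. -/
def edge (I : Ideal R) (i : Fin 2) : MvPowerSeries (Fin 2) R →+* PowerSeries (R ⧸ I) where
  toFun G := PowerSeries.mk fun q => Ideal.Quotient.mk I (coeff (Finsupp.single i q) G)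
  map_one' := PowerSeries.ext fun q => by
    classical
    rw [PowerSeries.coeff_mk, MvPowerSeries.coeff_one, PowerSeries.coeff_one]
    by_cases h : q = 0 <;> simp [h]
  map_zero' := PowerSeries.ext fun q => by simp
  map_add' F G := PowerSeries.ext fun q => by simp
  map_mul' F G := PowerSeries.ext fun q => by
    classical
    rw [PowerSeries.coeff_mk, MvPowerSeries.coeff_mul, PowerSeries.coeff_mul,
      Finsupp.antidiagonal_single, Finset.sum_map, map_sum]
    exact Finset.sum_congr rfl fun x _ => by simp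

lemma coeff_edge (I : Ideal R) (i : Fin 2) (G : MvPowerSeries (Fin 2) R) (q : ℕ) :
    PowerSeries.coeff q (edge I i G) = Ideal.Quotient.mk I (coeff (Finsupp.single i q) G) :=
  PowerSeries.coeff_mk q fun q => Ideal.Quotient.mk I (coeff (Finsupp.single i q) G)

lemma edge_C (I : Ideal R) (i : Fin 2) (a : R) :
    edge I i (C a) = PowerSeries.C (Ideal.Quotient.mk I a) := PowerSeries.ext fun q => by
  classical
  rw [coeff_edge, MvPowerSeries.coeff_C, PowerSeries.coeff_C]
  by_cases h : q = 0 <;> simp [h]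

lemma edge_X (I : Ideal R) (i : Fin 2) : edge I i (X i) = PowerSeries.X := PowerSeries.ext fun q => by
  classical
  rw [coeff_edge, MvPowerSeries.coeff_X, PowerSeries.coeff_X]
  by_cases h : q = 1 <;> simp [h, Finsupp.single_eq_single_iff]

lemma edge_X_of_ne (I : Ideal R) {i j : Fin 2} (h : j ≠ i) : edge I i (X j) = 0 :=
  PowerSeries.ext fun q => by
    classical
    rw [coeff_edge, MvPowerSeries.coeff_X, map_zero, if_neg, map_zero]
    intro hq
    have := DFunLike.congr_fun hq j
    simp [Ne.symm h] at this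

lemma edge_eqn {r π : R} (hπr : π ∣ r) (i : Fin 2) : edge (Ideal.span {π}) i (eqn r) = 0 := by
  rw [eqn, map_sub, map_mul, edge_C,
    Ideal.Quotient.eq_zero_iff_mem.2 (Ideal.mem_span_singleton.2 hπr), map_zero, sub_zero]
  fin_cases i
  · simp [edge_X_of_ne (Ideal.span {π}) (i := 0) (j := 1) (by decide)]
  · simp [edge_X_of_ne (Ideal.span {π}) (i := 1) (j := 0) (by decide)]

lemma ker_edge (π : R) {i j : Fin 2} (h : j ≠ i) :
    RingHom.ker (edge (Ideal.span {π}) i) = Ideal.span {C π, X j} := by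
  classical
  refine le_antisymm (fun G hG => ?_) (Ideal.span_le.2 fun z hz => ?_)
  · have hdiv : ∀ q, π ∣ coeff (Finsupp.single i q) G := fun q => by
      have := congrArg (PowerSeries.coeff q) (RingHom.mem_ker.1 hG)
      rwa [coeff_edge, map_zero, Ideal.Quotient.eq_zero_iff_mem, Ideal.mem_span_singleton] at this
    choose g hg using hdiv
    refine Ideal.mem_span_pair.2
      ⟨(fun n => if n j = 0 then g (n i) else 0 : MvPowerSeries (Fin 2) R),
        (fun n => coeff (n + Finsupp.single j 1) G : MvPowerSeries (Fin 2) R), ?_⟩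
    refine MvPowerSeries.ext fun n => ?_
    rw [map_add, mul_comm _ (C π), coeff_C_mul, mul_comm _ (X j : MvPowerSeries (Fin 2) R), X_def,
      coeff_monomial_mul, one_mul]
    show π * (if n j = 0 then g (n i) else 0) + (if _ then _ else _) = _
    by_cases hn : n j = 0
    · rw [if_pos hn, if_neg (by simp [Finsupp.single_le_iff, hn]), add_zero, ← hg]
      congr 2
      exact Finsupp.ext fun k => by
        fin_cases i <;> fin_cases j <;> fin_cases k <;> simp_all
    · have hle : Finsupp.single j 1 ≤ n := by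
        rw [Finsupp.single_le_iff]; omega
      rw [if_neg hn, if_pos hle, mul_zero, zero_add]
      show coeff (n - Finsupp.single j 1 + Finsupp.single j 1) G = _
      rw [tsub_add_cancel_of_le hle]
  · rcases hz with rfl | rfl
    · rw [SetLike.mem_coe, RingHom.mem_ker, edge_C, Ideal.Quotient.eq_zero_iff_mem.2
        (Ideal.mem_span_singleton_self π), map_zero]
    · rw [SetLike.mem_coe, RingHom.mem_ker, edge_X_of_ne _ h]

/-- The polynomial analogue of `ker_edge`. -/
lemma mem_of_edge_eq_zero (π : R) {i j : Fin 2} (h : j ≠ i) (p : MvPolynomial (Fin 2) R)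
    (hp : edge (Ideal.span {π}) i (p : MvPowerSeries (Fin 2) R) = 0) :
    p ∈ Ideal.span {MvPolynomial.C π, MvPolynomial.X j} := by
  classical
  rw [p.as_sum]
  refine Ideal.sum_mem _ fun n _ => ?_
  by_cases hn : n j = 0
  · have hn' : n = Finsupp.single i (n i) := Finsupp.ext fun k => by
      fin_cases i <;> fin_cases j <;> fin_cases k <;> simp_all
    have := congrArg (PowerSeries.coeff (n i)) hp
    rw [coeff_edge, map_zero, Ideal.Quotient.eq_zero_iff_mem, Ideal.mem_span_singleton,
      MvPolynomial.coeff_coe, ← hn'] at this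
    obtain ⟨c, hc⟩ := this
    rw [hc, ← MvPolynomial.C_mul_monomial]
    exact Ideal.mul_mem_right _ _ (Ideal.subset_span (Set.mem_insert _ _))
  · rw [show n = Finsupp.single j 1 + (n - Finsupp.single j 1) from
      (add_tsub_cancel_of_le (by rw [Finsupp.single_le_iff]; omega)).symm,
      MvPolynomial.monomial_single_add, pow_one]
    exact Ideal.mul_mem_right _ _ (Ideal.subset_span (Set.mem_insert_of_mem _ rfl))

/-- Every polynomial is congruent modulo `xy - r` to one without mixed monomials. -/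
lemma exists_reduced (r : R) (p : MvPolynomial (Fin 2) R) :
    ∃ p' : MvPolynomial (Fin 2) R,
      p - p' ∈ Ideal.span {(MvPolynomial.X 0 * MvPolynomial.X 1 - MvPolynomial.C r : MvPolynomial (Fin 2) R)} ∧
      ∀ n ∈ p'.support, n 0 = 0 ∨ n 1 = 0 := by
  classical
  induction p using MvPolynomial.induction_on' with
  | monomial n a =>
    suffices ∀ (N : ℕ) (n : Fin 2 →₀ ℕ) (a : R), n 0 ≤ N →
        ∃ p' : MvPolynomial (Fin 2) R, MvPolynomial.monomial n a - p' ∈
          Ideal.span {(MvPolynomial.X 0 * MvPolynomial.X 1 - MvPolynomial.C r : MvPolynomial (Fin 2) R)} ∧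
          ∀ k ∈ p'.support, k 0 = 0 ∨ k 1 = 0 from this (n 0) n a le_rfl
    intro N
    induction N with
    | zero =>
      intro n a hn
      refine ⟨MvPolynomial.monomial n a, by simp, fun k hk => Or.inl ?_⟩
      have := MvPolynomial.support_monomial_subset hk
      rw [Finset.mem_singleton.1 this]; omega
    | succ N ih =>
      intro n a hn
      by_cases hmix : n 0 = 0 ∨ n 1 = 0
      · refine ⟨MvPolynomial.monomial n a, by simp, fun k hk => ?_⟩
        have := MvPolynomial.support_monomial_subset hk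
        rw [Finset.mem_singleton.1 this]; exact hmix
      · set m : Fin 2 →₀ ℕ := idx (n 0 - 1) (n 1 - 1) with hm
        obtain ⟨p', hp', hred⟩ := ih m (r * a) (by rw [hm, idx_zero]; omega)
        refine ⟨p', ?_, hred⟩
        have hn' : n = Finsupp.single 0 1 + (Finsupp.single 1 1 + m) := Finsupp.ext fun k => by
          fin_cases k <;> simp [hm] <;> omega
        have : MvPolynomial.monomial n a - p' =
            (MvPolynomial.X 0 * MvPolynomial.X 1 - MvPolynomial.C r) * MvPolynomial.monomial m a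
              + (MvPolynomial.monomial m (r * a) - p') := by
          rw [hn', MvPolynomial.monomial_single_add, MvPolynomial.monomial_single_add,
            ← MvPolynomial.C_mul_monomial]
          ring
        rw [this]
        exact add_mem (Ideal.mul_mem_right _ _ (Ideal.subset_span rfl)) hp'
  | add p q hp hq =>
    obtain ⟨p', hp', hp''⟩ := hp
    obtain ⟨q', hq', hq''⟩ := hq
    refine ⟨p' + q', ?_, fun n hn => ?_⟩
    · rw [add_sub_add_comm]; exact add_mem hp' hq'
    · rcases Finset.mem_union.1 (MvPolynomial.support_add hn) with h | h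
      · exact hp'' n h
      · exact hq'' n h

variable [IsDomain R] [IsNoetherianRing R] [IsLocalRing R]
  [IsAdicComplete (maximalIdeal R) R] {r : R} (hr : r ∈ maximalIdeal R)

lemma d_C_mul (b : R) (G : MvPowerSeries (Fin 2) R) (k : ℤ) :
    d hr (C b * G) k = b * d hr G k := by
  rw [d, d, T_C_mul]; ring

lemma d_zero (k : ℤ) : d hr (0 : MvPowerSeries (Fin 2) R) k = 0 := by
  rw [← map_zero (C : R →+* MvPowerSeries (Fin 2) R), d_C, ite_self]

lemma dvd_d_or (G G' : MvPowerSeries (Fin 2) R) {π : R} (hπ : Prime π)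
    (h : ∀ n, π ∣ d hr (G * G') n) : (∀ k, π ∣ d hr G k) ∨ ∀ k, π ∣ d hr G' k := by
  by_contra hc
  simp only [not_or, not_forall] at hc
  obtain ⟨⟨k, hk⟩, l, hl⟩ := hc
  have := pow_dvd_d_mul_d hr hπ 1 (fun n => by simpa using h n) k l (G := G) (G' := G')
  rw [pow_one] at this
  exact (hπ.dvd_or_dvd this).elim hk hl

lemma mem_span_of_dvd_T {G : MvPowerSeries (Fin 2) R} {π : R}
    (hx : ∀ p, π ∣ T hr G p 0) (hy : ∀ q, π ∣ T hr G 0 q) :
    ∃ H, G - C π * H ∈ Ideal.span {eqn r} := by
  choose e he using hx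
  choose f hf using hy
  have hTx : ∀ p, T hr G p 0 = T hr (C π * nf e f) p 0 := fun p => by
    rw [T_C_mul, T_nf, if_pos rfl, ← he]
  refine ⟨nf e f, mem_span_of_T_eq hr hTx fun q => ?_⟩
  rcases Nat.eq_zero_or_pos q with rfl | hq
  · exact hTx 0
  · rw [T_C_mul, T_nf, if_neg (by omega), if_pos rfl, ← hf]

lemma mem_span_of_dvd_d {G : MvPowerSeries (Fin 2) R} {π : R} (hπ : Prime π) (hπr : ¬ π ∣ r)
    (h : ∀ k, π ∣ d hr G k) : ∃ H, G - C π * H ∈ Ideal.span {eqn r} := by
  refine mem_span_of_dvd_T hr (fun p => d_natCast hr G p ▸ h p) fun q => ?_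
  have := h (-(q : ℤ))
  rw [d_neg_natCast] at this
  exact (hπ.dvd_or_dvd this).resolve_left fun h' => hπr (hπ.dvd_of_dvd_pow h')

include hr in
/-- `R[[x, y]]/(xy - r)` is a domain. -/
lemma isDomain_quot [UniqueFactorizationMonoid R] (hr0 : r ≠ 0) :
    IsDomain (MvPowerSeries (Fin 2) R ⧸ Ideal.span {eqn r}) := by
  rw [Ideal.Quotient.isDomain_iff_prime, Ideal.isPrime_iff]
  refine ⟨?_, fun {G G'} h => ?_⟩
  · rw [Ne, Ideal.span_singleton_eq_top, MvPowerSeries.isUnit_iff_constantCoeff]
    simpa [eqn] using hr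
  obtain ⟨π, hπ, hπr⟩ := WfDvdMonoid.exists_irreducible_factor (show ¬ IsUnit r from hr) hr0
  have hπ' : Prime π := UniqueFactorizationMonoid.irreducible_iff_prime.1 hπ
  have hd0 : ∀ n, d hr (G * G') n = 0 := fun n => by
    rw [d_congr hr (G' := 0) (by rwa [sub_zero]), d_zero]
  have hzero : ∀ k l, d hr G k * d hr G' l = 0 := fun k l => eq_zero_of_forall_pow fun m => by
    obtain ⟨c, hc⟩ := pow_dvd_d_mul_d hr hπ' m (fun n => by rw [hd0]; exact dvd_zero _) k l
      (G := G) (G' := G')
    rw [hc]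
    exact Ideal.mul_mem_right _ _ (Ideal.pow_mem_pow (show π ∈ maximalIdeal R from hπ'.not_unit) m)
  have key : ∀ F, (∀ k, d hr F k = 0) → F ∈ Ideal.span {eqn r} := fun F hF => by
    rw [← sub_zero F]
    refine mem_span_of_T_eq hr (fun p => ?_) fun q => ?_
    · rw [← d_natCast, ← d_natCast, hF, d_zero]
    · have h1 := hF (-(q : ℤ))
      have h2 := d_zero hr (-(q : ℤ))
      rw [d_neg_natCast] at h1 h2
      exact mul_left_cancel₀ (pow_ne_zero q hr0) (h1.trans h2.symm)
  by_cases hG : ∀ k, d hr G k = 0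
  · exact Or.inl (key G hG)
  · obtain ⟨k, hk⟩ := not_forall.1 hG
    exact Or.inr (key G' fun l => (mul_eq_zero.1 (hzero k l)).resolve_left hk)

include hr in
/-- A prime not dividing `r` stays prime in `R[[x, y]]/(xy - r)`. -/
lemma isPrime_span_prime {π : R} (hπ : Prime π) (hπr : ¬ π ∣ r) :
    (Ideal.span {Ideal.Quotient.mk (Ideal.span {eqn r}) (C π)}).IsPrime := by
  have hmem : ∀ F, Ideal.Quotient.mk (Ideal.span {eqn r}) F ∈
      Ideal.span {Ideal.Quotient.mk (Ideal.span {eqn r}) (C π)} ↔
      ∀ k, π ∣ d hr F k := fun F => by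
    refine ⟨fun h k => ?_, fun h => ?_⟩
    · obtain ⟨z, hz⟩ := Ideal.mem_span_singleton.1 h
      obtain ⟨H, rfl⟩ := Ideal.Quotient.mk_surjective z
      rw [← map_mul, Ideal.Quotient.eq] at hz
      rw [d_congr hr hz, d_C_mul]; exact dvd_mul_right _ _
    · obtain ⟨H, hH⟩ := mem_span_of_dvd_d hr hπ hπr h
      exact Ideal.mem_span_singleton.2 ⟨Ideal.Quotient.mk _ H, by rw [← map_mul, Ideal.Quotient.eq]; exact hH⟩
  rw [Ideal.isPrime_iff]
  refine ⟨fun htop => ?_, fun {a b} h => ?_⟩
  · have := (hmem 1).1 (by rw [map_one, htop]; trivial) 0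
    rw [← map_one (C : R →+* MvPowerSeries (Fin 2) R), d_C, if_pos rfl] at this
    exact hπ.not_unit (isUnit_of_dvd_one this)
  · obtain ⟨G, rfl⟩ := Ideal.Quotient.mk_surjective a
    obtain ⟨G', rfl⟩ := Ideal.Quotient.mk_surjective b
    rw [← map_mul, hmem] at h
    rw [hmem, hmem]
    exact dvd_d_or hr G G' hπ h

include hr in
/-- The polynomial analogue of `mem_span_of_dvd_d`. -/
lemma poly_mem_span {π : R} (hπ : Prime π) (hπr : ¬ π ∣ r) (p : MvPolynomial (Fin 2) R)
    (h : Ideal.Quotient.mk (Ideal.span {eqn r}) (p : MvPowerSeries (Fin 2) R) ∈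
      Ideal.span {Ideal.Quotient.mk (Ideal.span {eqn r}) (C π)}) :
    ∃ q : MvPolynomial (Fin 2) R, p - MvPolynomial.C π * q ∈
      Ideal.span {(MvPolynomial.X 0 * MvPolynomial.X 1 - MvPolynomial.C r : MvPolynomial (Fin 2) R)} := by
  classical
  obtain ⟨p', hp', hred⟩ := exists_reduced r p
  obtain ⟨z, hz⟩ := Ideal.mem_span_singleton.1 h
  obtain ⟨H, rfl⟩ := Ideal.Quotient.mk_surjective z
  rw [← map_mul, Ideal.Quotient.eq] at hz
  have hpp : (p : MvPowerSeries (Fin 2) R) - (p' : MvPowerSeries (Fin 2) R) ∈ Ideal.span {eqn r} := by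
    obtain ⟨w, hw⟩ := Ideal.mem_span_singleton'.1 hp'
    refine Ideal.mem_span_singleton'.2 ⟨(w : MvPowerSeries (Fin 2) R), ?_⟩
    have := congrArg (MvPolynomial.coeToMvPowerSeries.ringHom (R := R) (σ := Fin 2)) hw
    rw [map_mul, map_sub, map_sub, map_mul] at this
    simpa [eqn] using this
  have hT : ∀ a b, T hr (p' : MvPowerSeries (Fin 2) R) a b = p'.coeff (idx a b) := fun a b => by
    refine (T_unique hr (S := fun a b => p'.coeff (idx a b)) (fun a b => ?_) a b).symm
    rw [MvPolynomial.coeff_coe]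
    have : p'.coeff (idx (a + 1) (b + 1)) = 0 := by
      by_contra hne
      have := hred _ (MvPolynomial.mem_support_iff.2 hne)
      simp at this
    simp [this]
  have hdiv : ∀ n, π ∣ p'.coeff n := fun n => by
    by_cases hn : n ∈ p'.support
    · have hd : ∀ k, π ∣ d hr (p' : MvPowerSeries (Fin 2) R) k := fun k => by
        rw [← d_congr hr hpp, d_congr hr hz, d_C_mul]; exact dvd_mul_right _ _
      rcases hred n hn with h0 | h1
      · have := hd (-((n 1 : ℕ) : ℤ))
        rw [d_neg_natCast, hT, ← h0, idx_self] at this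
        exact (hπ.dvd_or_dvd this).resolve_left fun h' => hπr (hπ.dvd_of_dvd_pow h')
      · have := hd (n 0 : ℤ)
        rwa [d_natCast, hT, ← h1, idx_self] at this
    · rw [MvPolynomial.notMem_support_iff.1 hn]; exact dvd_zero _
  obtain ⟨q, hq⟩ := (MvPolynomial.C_dvd_iff_dvd_coeff π p').2 hdiv
  exact ⟨q, by rwa [← hq]⟩

end Groth.Agent.NodeSeriesLib
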