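import Mathlib
import Groth.Agent.NodeSeriesLib.Basic
import Groth.Agent.NodeSeriesLib.Content
import Groth.Agent.NodeSeriesLib.Fibral
import Groth.Agent.SmoothParaLib.Ext
import Groth.Agent.RegLocal.UFD

/-! `R[[x]][y]/(xy - r)` and Weierstrass preparation in `R[[x, y]]/(xy - r)`. -/

set_option autoImplicit false

noncomputable section

universe u

open MvPowerSeries IsLocalRing

namespace Groth.Agent.NodeSeriesLib

variable {R : Type u} [CommRing R]

omit [CommRing R] in
lemma idx_zero_right (p : ℕ) : idx p 0 = Finsupp.single 0 p := by simp [idx]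

omit [CommRing R] in
lemma idx_zero_left (q : ℕ) : idx 0 q = Finsupp.single 1 q := by simp [idx]

lemma coeff_slice (G : MvPowerSeries (Fin 2) R) (i j : ℕ) :
    PowerSeries.coeff i (slice G j) = coeff (idx i j) G := PowerSeries.coeff_mk _ _

/-- `R[[x, y]] = R[[x]][[y]]`. -/
def slices : MvPowerSeries (Fin 2) R ≃+* PowerSeries (PowerSeries R) where
  toFun G := PowerSeries.mk (slice G)
  invFun F := fun n => PowerSeries.coeff (n 0) (PowerSeries.coeff (n 1) F)
  left_inv G := ext_idx fun p q => by
    show PowerSeries.coeff (idx p q 0) (PowerSeries.coeff (idx p q 1) (PowerSeries.mk (slice G))) = _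
    rw [idx_zero, idx_one, PowerSeries.coeff_mk, coeff_slice]
  right_inv F := PowerSeries.ext fun j => PowerSeries.ext fun i => by
    rw [PowerSeries.coeff_mk, coeff_slice]
    show PowerSeries.coeff (idx i j 0) (PowerSeries.coeff (idx i j 1) F) = _
    rw [idx_zero, idx_one]
  map_mul' F G := PowerSeries.ext fun j => by
    rw [PowerSeries.coeff_mul, PowerSeries.coeff_mk, slice_mul]
    simp
  map_add' F G := PowerSeries.ext fun j => PowerSeries.ext fun i => by
    simp [coeff_slice]

lemma coeff_slices (G : MvPowerSeries (Fin 2) R) (j : ℕ) :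
    PowerSeries.coeff j (slices G) = slice G j := PowerSeries.coeff_mk j (slice G)

lemma slices_C (a : R) : slices (C a) = PowerSeries.C (PowerSeries.C a) :=
  PowerSeries.ext fun j => PowerSeries.ext fun i => by
    classical
    rw [coeff_slices, coeff_slice, MvPowerSeries.coeff_C, PowerSeries.coeff_C]
    have : idx i j = 0 ↔ i = 0 ∧ j = 0 := by
      rw [show (0 : Fin 2 →₀ ℕ) = idx 0 0 by simp [idx], idx_inj]
    simp only [this, apply_ite (PowerSeries.coeff i), PowerSeries.coeff_C, map_zero]
    split_ifs <;> simp_all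

lemma slices_X0 : slices (X 0 : MvPowerSeries (Fin 2) R) = PowerSeries.C PowerSeries.X :=
  PowerSeries.ext fun j => PowerSeries.ext fun i => by
    classical
    rw [coeff_slices, coeff_slice, MvPowerSeries.coeff_X, PowerSeries.coeff_C,
      show (Finsupp.single (0 : Fin 2) 1) = idx 1 0 by simp [idx]]
    by_cases hj : j = 0 <;> by_cases hi : i = 1 <;> simp [idx_inj, hi, hj, PowerSeries.coeff_X]

lemma slices_X1 : slices (X 1 : MvPowerSeries (Fin 2) R) = PowerSeries.X :=
  PowerSeries.ext fun j => PowerSeries.ext fun i => by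
    classical
    rw [coeff_slices, coeff_slice, MvPowerSeries.coeff_X, PowerSeries.coeff_X,
      show (Finsupp.single (1 : Fin 2) 1) = idx 0 1 by simp [idx]]
    by_cases hj : j = 1 <;> by_cases hi : i = 0 <;> simp [idx_inj, hi, hj, PowerSeries.coeff_one]

variable (r : R)

/-- The equation in `R[[x]][y]`. -/
def eqP : Polynomial (PowerSeries R) :=
  Polynomial.C PowerSeries.X * Polynomial.X - Polynomial.C (PowerSeries.C r)

/-- `R[[x]][y]/(xy - r)`. -/
abbrev PolyModel : Type u := Polynomial (PowerSeries R) ⧸ Ideal.span {eqP r}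

instance (priority := high) polyModelCommRing : CommRing (PolyModel r) := Ideal.Quotient.commRing _

/-- `R[[x, y]]/(xy - r)`. -/
abbrev SeriesModel : Type u := MvPowerSeries (Fin 2) R ⧸ Ideal.span {eqn r}

lemma slices_eqn : slices (eqn r) = (eqP r : PowerSeries (PowerSeries R)) := by
  rw [eqn, map_sub, map_mul, slices_X0, slices_X1, slices_C, eqP, Polynomial.coe_sub,
    Polynomial.coe_mul, Polynomial.coe_C, Polynomial.coe_C, Polynomial.coe_X]

/-- The comparison map. -/
def toSeries : PolyModel r →+* SeriesModel r :=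
  Ideal.Quotient.lift _ ((Ideal.Quotient.mk _).comp
    (slices.symm.toRingHom.comp Polynomial.coeToPowerSeries.ringHom)) (by
    intro p hp
    obtain ⟨w, rfl⟩ := Ideal.mem_span_singleton'.1 hp
    rw [RingHom.comp_apply, Ideal.Quotient.eq_zero_iff_mem, map_mul]
    refine Ideal.mul_mem_left _ _ ?_
    show slices.symm (eqP r : PowerSeries (PowerSeries R)) ∈ _
    rw [← slices_eqn, RingEquiv.symm_apply_apply]
    exact Ideal.subset_span rfl)

lemma toSeries_mk (f : Polynomial (PowerSeries R)) :
    toSeries r (Ideal.Quotient.mk _ f) =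
      Ideal.Quotient.mk _ (slices.symm (f : PowerSeries (PowerSeries R))) := rfl

variable {r}

variable [IsDomain R]

lemma powerSeries_X_not_dvd (hr0 : r ≠ 0) : ¬ (PowerSeries.X : PowerSeries R) ∣ PowerSeries.C r := by
  rw [PowerSeries.X_dvd_iff, PowerSeries.constantCoeff_C]; exact hr0

lemma eqP_prime [UniqueFactorizationMonoid (PowerSeries R)] (hr0 : r ≠ 0) : Prime (eqP r) := by
  rw [← UniqueFactorizationMonoid.irreducible_iff_prime, eqP, sub_eq_add_neg, ← Polynomial.C_neg]
  refine Polynomial.irreducible_C_mul_X_add_C PowerSeries.X_ne_zero ?_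
  refine (Irreducible.isRelPrime_iff_not_dvd PowerSeries.X_prime.irreducible).2 ?_
  rw [dvd_neg]
  exact powerSeries_X_not_dvd hr0

lemma isDomain_polyModel [UniqueFactorizationMonoid (PowerSeries R)] (hr0 : r ≠ 0) :
    IsDomain (PolyModel r) := by
  haveI : (Ideal.span {eqP r}).IsPrime :=
    (Ideal.span_singleton_prime (eqP_prime hr0).ne_zero).2 (eqP_prime hr0)
  exact Ideal.Quotient.isDomain _

/-- The class of `x`. -/
def xP (r : R) : PolyModel r := Ideal.Quotient.mk _ (Polynomial.C PowerSeries.X)

lemma xP_mul (r : R) : xP r * Ideal.Quotient.mk _ Polynomial.X =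
    Ideal.Quotient.mk _ (Polynomial.C (PowerSeries.C r)) := by
  rw [xP, ← map_mul, Ideal.Quotient.eq]
  exact Ideal.subset_span rfl

lemma prime_xP [UniqueFactorizationMonoid (PowerSeries R)] (hr : Prime r) : Prime (xP r) := by
  have hr0 := hr.ne_zero
  haveI : (Ideal.span {r}).IsPrime := (Ideal.span_singleton_prime hr0).2 hr
  set θ : Polynomial (PowerSeries R) →+* Polynomial (R ⧸ Ideal.span {r}) :=
    Polynomial.mapRingHom ((Ideal.Quotient.mk (Ideal.span {r})).comp PowerSeries.constantCoeff) with hθ
  have hker : RingHom.ker θ = Ideal.span {Polynomial.C PowerSeries.X, eqP r} := by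
    refine le_antisymm (fun f hf => ?_) (Ideal.span_le.2 ?_)
    · rw [hθ, Polynomial.ker_mapRingHom] at hf
      refine (Ideal.map_le_iff_le_comap.2 fun s hs => ?_) hf
      rw [RingHom.mem_ker, RingHom.comp_apply, Ideal.Quotient.eq_zero_iff_mem,
        Ideal.mem_span_singleton] at hs
      obtain ⟨c, hc⟩ := hs
      obtain ⟨t, ht⟩ : (PowerSeries.X : PowerSeries R) ∣ s - PowerSeries.C r * PowerSeries.C c := by
        rw [PowerSeries.X_dvd_iff, map_sub, map_mul, PowerSeries.constantCoeff_C,
          PowerSeries.constantCoeff_C, hc, sub_self]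
      rw [Ideal.mem_comap, show s = PowerSeries.X * t + PowerSeries.C r * PowerSeries.C c by
        rw [← ht, sub_add_cancel], map_add, map_mul, map_mul]
      refine add_mem (Ideal.mul_mem_right _ _ (Ideal.subset_span (Set.mem_insert _ _)))
        (Ideal.mul_mem_right _ _ ?_)
      have : Polynomial.C (PowerSeries.C r) = Polynomial.C PowerSeries.X * Polynomial.X - eqP r := by
        rw [eqP, sub_sub_cancel]
      rw [this]
      exact sub_mem (Ideal.mul_mem_right _ _ (Ideal.subset_span (Set.mem_insert _ _)))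
        (Ideal.subset_span (Set.mem_insert_of_mem _ rfl))
    · rintro z (rfl | rfl)
      · simp [hθ]
      · simp [hθ, eqP, Ideal.Quotient.eq_zero_iff_mem.2 (Ideal.mem_span_singleton_self r)]
  have hP : ((Ideal.span {Polynomial.C PowerSeries.X, eqP r}).map
      (Ideal.Quotient.mk (Ideal.span {eqP r}))).IsPrime := by
    haveI : (Ideal.span {Polynomial.C (PowerSeries.X : PowerSeries R), eqP r}).IsPrime :=
      hker ▸ RingHom.ker_isPrime θ
    refine Ideal.map_isPrime_of_surjective Ideal.Quotient.mk_surjective ?_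
    rw [Ideal.mk_ker]
    exact Ideal.span_mono (Set.subset_insert _ _)
  have hne : xP r ≠ 0 := by
    rw [xP, Ne, Ideal.Quotient.eq_zero_iff_mem, Ideal.mem_span_singleton]
    intro hd
    have h1 := Polynomial.natDegree_le_of_dvd hd (Polynomial.C_ne_zero.2 PowerSeries.X_ne_zero)
    rw [Polynomial.natDegree_C, eqP, Polynomial.natDegree_sub_C,
      Polynomial.natDegree_C_mul_X _ PowerSeries.X_ne_zero] at h1
    omega
  rw [← Ideal.span_singleton_prime hne]
  rw [Ideal.map_span, Set.image_pair,
    Ideal.Quotient.eq_zero_iff_mem.2 (Ideal.mem_span_singleton_self (eqP r)), Set.pair_comm,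
    Ideal.span_insert_zero] at hP
  exact hP

lemma ufd_polyModel [IsNoetherianRing R] [UniqueFactorizationMonoid (PowerSeries R)] (hr : Prime r) :
    UniqueFactorizationMonoid (PolyModel r) := by
  haveI := isDomain_polyModel (r := r) hr.ne_zero
  refine (UniqueFactorizationMonoid.iff_localizationAway_of_prime (prime_xP hr)).2 ?_
  set S := PowerSeries R
  set L := Localization.Away (PowerSeries.X : S)
  have hXu : IsUnit (algebraMap S L PowerSeries.X) :=
    IsLocalization.Away.algebraMap_isUnit (PowerSeries.X : S)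
  set yv : L := algebraMap S L (PowerSeries.C r) * ↑(hXu.unit⁻¹) with hyv
  let g₀ : PolyModel r →+* L := Ideal.Quotient.lift _ (Polynomial.eval₂RingHom (algebraMap S L) yv) (by
    intro p hp
    obtain ⟨w, rfl⟩ := Ideal.mem_span_singleton'.1 hp
    simp [eqP, hyv, mul_left_comm (algebraMap S L PowerSeries.X)])
  have hgx : g₀ (xP r) = algebraMap S L PowerSeries.X := by simp [g₀, xP]
  let g : Localization.Away (xP r) →+* L :=
    IsLocalization.Away.lift (xP r) (g := g₀) (by rw [hgx]; exact hXu)
  let f : L →+* Localization.Away (xP r) :=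
    IsLocalization.Away.lift (PowerSeries.X : S)
      (g := (algebraMap (PolyModel r) (Localization.Away (xP r))).comp
        ((Ideal.Quotient.mk _).comp Polynomial.C)) (IsLocalization.Away.algebraMap_isUnit (xP r))
  have hf : ∀ s : S, f (algebraMap S L s) =
      algebraMap _ _ (Ideal.Quotient.mk (Ideal.span {eqP r}) (Polynomial.C s)) :=
    fun s => IsLocalization.Away.lift_eq _ _ s
  have hg : ∀ a, g (algebraMap _ _ a) = g₀ a := fun a => IsLocalization.Away.lift_eq _ _ a
  have h1 : g.comp f = RingHom.id L := by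
    refine IsLocalization.ringHom_ext (Submonoid.powers (PowerSeries.X : S)) (RingHom.ext fun s => ?_)
    show g (f (algebraMap S L s)) = algebraMap S L s
    rw [hf, hg]
    simp [g₀]
  have h2 : f.comp g = RingHom.id _ := by
    refine IsLocalization.ringHom_ext (Submonoid.powers (xP r)) (Ideal.Quotient.ringHom_ext
      (Polynomial.ringHom_ext (fun s => ?_) ?_))
    · simp only [RingHom.comp_apply, hg, RingHom.id_apply]
      simp [g₀, hf]
    · simp only [RingHom.comp_apply, hg, RingHom.id_apply]
      have hxu : IsUnit (algebraMap (PolyModel r) (Localization.Away (xP r)) (xP r)) :=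
        IsLocalization.Away.algebraMap_isUnit (xP r)
      have hev : g₀ (Ideal.Quotient.mk _ Polynomial.X) = yv := by simp [g₀]
      refine hxu.mul_left_cancel ?_
      have hfx : algebraMap (PolyModel r) (Localization.Away (xP r)) (xP r) =
          f (algebraMap S L PowerSeries.X) := by rw [hf]; rfl
      rw [← map_mul, xP_mul, hev, hfx, ← map_mul, hyv, mul_left_comm, IsUnit.mul_val_inv, mul_one, hf]
  haveI : UniqueFactorizationMonoid L :=
    UniqueFactorizationMonoid.of_isLocalization (Submonoid.powers (PowerSeries.X : S)) L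
  exact MulEquiv.uniqueFactorizationMonoid (RingEquiv.ofRingHom f g h2 h1).toMulEquiv inferInstance

variable [IsNoetherianRing R] [IsLocalRing R] [IsAdicComplete (maximalIdeal R) R]

attribute [-instance] PowerSeries.algebraPowerSeries MvPowerSeries.algebraMvPowerSeries in
omit [IsDomain R] in
/-- An irreducible element with a unit coefficient on the `y`-axis is prime. -/
lemma prime_of_irreducible_of_coeff [UniqueFactorizationMonoid (PolyModel r)]
    [IsDomain (PolyModel r)] [IsDomain (SeriesModel r)]
    {G : MvPowerSeries (Fin 2) R}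
    (hirr : Irreducible (Ideal.Quotient.mk (Ideal.span {eqn r}) G)) {j : ℕ}
    (hj : coeff (Finsupp.single 1 j) G ∉ maximalIdeal R) :
    Prime (Ideal.Quotient.mk (Ideal.span {eqn r}) G) := by
  haveI := SmoothParaLib.isAdicComplete_powerSeries R
  have hg : (slices G).map (residue (PowerSeries R)) ≠ 0 := fun h => by
    have h1 := congrArg (PowerSeries.coeff j) h
    rw [PowerSeries.coeff_map, coeff_slices, map_zero, residue_eq_zero_iff, mem_maximalIdeal,
      mem_nonunits_iff, PowerSeries.isUnit_iff_constantCoeff, ← PowerSeries.coeff_zero_eq_constantCoeff_apply,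
      coeff_slice, idx_zero_left] at h1
    exact hj h1
  obtain ⟨P, h, H⟩ := PowerSeries.exists_isWeierstrassFactorization hg
  set a := Ideal.Quotient.mk (Ideal.span {eqn r}) G with ha
  set Pb : PolyModel r := Ideal.Quotient.mk _ P with hPb
  have haP : a = toSeries r Pb * Ideal.Quotient.mk _ (slices.symm h) := by
    rw [hPb, toSeries_mk, ← map_mul, ← map_mul, ← H.eq_mul, RingEquiv.symm_apply_apply]
  have hu : IsUnit (Ideal.Quotient.mk (Ideal.span {eqn r}) (slices.symm h)) :=
    (H.isUnit.map slices.symm).map _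
  have hP0 : Pb ≠ 0 := fun h0 => hirr.ne_zero (by rw [haP, h0, map_zero, zero_mul])
  have hPu : ¬ IsUnit Pb := fun h0 => hirr.not_isUnit (by rw [haP]; exact (h0.map _).mul hu)
  obtain ⟨p, hp, hpP⟩ := WfDvdMonoid.exists_irreducible_factor (α := PolyModel r) hPu hP0
  have hp' : Prime p := UniqueFactorizationMonoid.irreducible_iff_prime.1 hp
  haveI : (Ideal.span {p}).IsPrime := (Ideal.span_singleton_prime hp'.ne_zero).2 hp'
  -- the map to `R[[x]][y]/(xy - r, p)`
  set D := PolyModel r ⧸ Ideal.span {p}
  have hPD : ∀ w ∈ Ideal.span {P}, (Ideal.Quotient.mk (Ideal.span {p})).comp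
      (Ideal.Quotient.mk (Ideal.span {eqP r})) w = 0 := by
    intro w hw
    obtain ⟨c, rfl⟩ := Ideal.mem_span_singleton'.1 hw
    rw [RingHom.comp_apply, Ideal.Quotient.eq_zero_iff_mem, map_mul]
    exact Ideal.mul_mem_left _ _ (Ideal.mem_span_singleton.2 hpP)
  have e0 : {e : (Polynomial (PowerSeries R) ⧸ Ideal.span {P}) ≃+*
      (PowerSeries (PowerSeries R) ⧸ Ideal.span {(P : PowerSeries (PowerSeries R))}) //
      ∀ f : Polynomial (PowerSeries R),
        e (Ideal.Quotient.mk _ f) = Ideal.Quotient.mk _ (f : PowerSeries (PowerSeries R))} :=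
    ⟨@AlgEquiv.toRingEquiv _ _ _ _ _ _ _ _ H.isDistinguishedAt.algEquivQuotient, fun f => rfl⟩
  obtain ⟨e, he⟩ := e0
  let Φ : MvPowerSeries (Fin 2) R →+* D :=
    ((Ideal.Quotient.lift _ _ hPD).comp (e.symm.toRingHom.comp (Ideal.Quotient.mk _))).comp
      slices.toRingHom
  have hΦ : ∀ f : Polynomial (PowerSeries R),
      Φ (slices.symm (f : PowerSeries (PowerSeries R))) =
        Ideal.Quotient.mk _ (Ideal.Quotient.mk (Ideal.span {eqP r}) f) := fun f => by
    show Ideal.Quotient.lift _ _ hPD (e.symm (Ideal.Quotient.mk _ (slices (slices.symm _)))) = _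
    rw [RingEquiv.apply_symm_apply, ← he, RingEquiv.symm_apply_apply, Ideal.Quotient.lift_mk]
    rfl
  have hΦe : ∀ w ∈ Ideal.span {eqn r}, Φ w = 0 := by
    intro w hw
    obtain ⟨c, rfl⟩ := Ideal.mem_span_singleton'.1 hw
    rw [map_mul, ← RingEquiv.symm_apply_apply slices (eqn r), slices_eqn, hΦ,
      Ideal.Quotient.eq_zero_iff_mem.2 (Ideal.mem_span_singleton_self (eqP r)), map_zero, mul_zero]
  let Φb : SeriesModel r →+* D := Ideal.Quotient.lift _ Φ hΦe
  have hcomp : ∀ z, Φb (toSeries r z) = Ideal.Quotient.mk _ z := by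
    intro z
    obtain ⟨f, rfl⟩ := Ideal.Quotient.mk_surjective z
    exact hΦ f
  have hdvd : toSeries r p ∣ a := by
    rw [haP]; exact (map_dvd _ hpP).mul_right _
  have hker : RingHom.ker Φb = Ideal.span {toSeries r p} := by
    refine le_antisymm (fun z hz => ?_) (Ideal.span_le.2 fun z hz => ?_)
    · obtain ⟨F, rfl⟩ := Ideal.Quotient.mk_surjective z
      obtain ⟨f, hf⟩ : ∃ f : Polynomial (PowerSeries R),
          slices F - (f : PowerSeries (PowerSeries R)) ∈ Ideal.span {(P : PowerSeries (PowerSeries R))} := by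
        obtain ⟨f, hf⟩ := Ideal.Quotient.mk_surjective (e.symm (Ideal.Quotient.mk _ (slices F)))
        refine ⟨f, Ideal.Quotient.eq.1 ?_⟩
        rw [← he, hf, RingEquiv.apply_symm_apply]
      obtain ⟨w, hw⟩ := Ideal.mem_span_singleton'.1 hf
      have hF : Ideal.Quotient.mk (Ideal.span {eqn r}) F =
          Ideal.Quotient.mk _ (slices.symm w) * toSeries r Pb +
            toSeries r (Ideal.Quotient.mk _ f) := by
        rw [hPb, toSeries_mk, toSeries_mk, ← map_mul, ← map_add, ← map_mul, ← map_add, hw,
          sub_add_cancel, RingEquiv.symm_apply_apply]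
      rw [RingHom.mem_ker, hF, map_add, map_mul, hcomp, hcomp,
        Ideal.Quotient.eq_zero_iff_mem.2 (Ideal.mem_span_singleton.2 hpP), mul_zero, zero_add,
        Ideal.Quotient.eq_zero_iff_mem, Ideal.mem_span_singleton] at hz
      rw [hF]
      exact add_mem (Ideal.mul_mem_left _ _ (Ideal.mem_span_singleton.2 (map_dvd _ hpP)))
        (Ideal.mem_span_singleton.2 (map_dvd _ hz))
    · rw [Set.mem_singleton_iff.1 hz, SetLike.mem_coe, RingHom.mem_ker, hcomp,
        Ideal.Quotient.eq_zero_iff_mem]
      exact Ideal.mem_span_singleton_self p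
  have hne : toSeries r p ≠ 0 := fun h0 => hirr.ne_zero (zero_dvd_iff.1 (h0 ▸ hdvd))
  have hprime : Prime (toSeries r p) := by
    rw [← Ideal.span_singleton_prime hne, ← hker]
    exact RingHom.ker_isPrime Φb
  exact (hprime.irreducible.associated_of_dvd hirr hdvd).prime hprime

end Groth.Agent.NodeSeriesLib
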