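import Mathlib
import Groth.Agent.NodeSeriesLib.Basic
import Groth.Agent.NodeSeriesLib.Content
import Groth.Agent.NodeSeriesLib.Fibral
import Groth.Agent.NodeSeriesLib.Poly
import Groth.Agent.RegLocal.Basic
import Groth.Agent.RegLocal.UFD

/-! `R[[x, y]]/(xy - r)` is factorial for `R` complete regular and `r` prime. -/

set_option autoImplicit false

noncomputable section

universe u

open MvPowerSeries IsLocalRing

namespace Groth.Agent.NodeSeriesLib

/-- The descent: if a power-of-primes element `s ∉ P` carries `q` into `(g)`, then `q` is principal. -/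
lemma isPrincipal_of_smul_le {A : Type u} [CommRing A] [IsDomain A] [IsNoetherianRing A]
    (P q : Ideal A) [q.IsPrime] (hprime : ∀ a, a ∉ P → Irreducible a → Prime a)
    (h1 : q.height = 1) :
    ∀ s : A, s ∉ P → ∀ g ∈ q, (∀ z ∈ q, g ∣ s * z) → q.IsPrincipal := by
  intro s
  induction s using WfDvdMonoid.induction_on_irreducible with
  | zero => exact fun h => absurd P.zero_mem h
  | unit u hu =>
    intro _ g hg hdvd
    exact ⟨g, le_antisymm (fun z hz => Ideal.mem_span_singleton.2 ((hu.dvd_mul_left).1 (hdvd z hz)))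
      ((Ideal.span_singleton_le_iff_mem _).2 hg)⟩
  | mul a p _ hp ih =>
    intro hs g hg hdvd
    have hpP : p ∉ P := fun h => hs (Ideal.mul_mem_right _ _ h)
    have haP : a ∉ P := fun h => hs (Ideal.mul_mem_left _ _ h)
    have hp' := hprime p hpP hp
    by_cases hpq : p ∈ q
    · exact ⟨p, q.eq_span_singleton_of_height_eq_one h1 hpq hp'⟩
    by_cases hpg : p ∣ g
    · obtain ⟨g', rfl⟩ := hpg
      have hg' : g' ∈ q := ((‹q.IsPrime›.mem_or_mem hg).resolve_left hpq)
      refine ih haP g' hg' fun z hz => ?_
      have := hdvd z hz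
      rw [mul_assoc] at this
      exact (mul_dvd_mul_iff_left hp.ne_zero).1 this
    · refine ih haP g hg fun z hz => ?_
      obtain ⟨w, hw⟩ := hdvd z hz
      obtain ⟨w', rfl⟩ : p ∣ w := (hp'.dvd_or_dvd ⟨a * z, by rw [← hw, mul_assoc]⟩).resolve_left hpg
      exact ⟨w', mul_left_cancel₀ hp.ne_zero (by rw [← mul_assoc, hw]; ring)⟩

/-- Kaplansky via a single factorial localisation. -/
lemma ufd_of_localization {A : Type u} [CommRing A] [IsDomain A] [IsNoetherianRing A]
    (P : Ideal A) [P.IsPrime] [UniqueFactorizationMonoid (Localization.AtPrime P)]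
    (hprime : ∀ a, a ∉ P → Irreducible a → Prime a) : UniqueFactorizationMonoid A := by
  refine UniqueFactorizationMonoid.of_forall_isPrincipal_of_height_eq_one fun q hq h1 => ?_
  haveI := hq
  by_cases hqP : q ≤ P
  · have hd : Disjoint (P.primeCompl : Set A) q := Set.disjoint_left.2 fun z hz hz' => hz (hqP hz')
    haveI := IsLocalization.isPrime_of_isPrime_disjoint P.primeCompl (Localization.AtPrime P) q hq hd
    have h1' : (q.map (algebraMap A (Localization.AtPrime P))).height = 1 := by
      rw [← IsLocalization.height_under P.primeCompl,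
        IsLocalization.under_map_of_isPrime_disjoint P.primeCompl (Localization.AtPrime P) hq hd, h1]
    obtain ⟨π, hπ⟩ := (UniqueFactorizationMonoid.isPrincipal_of_height_eq_one h1').principal
    obtain ⟨⟨⟨g, hg⟩, t⟩, hgt⟩ := (IsLocalization.mem_map_algebraMap_iff P.primeCompl
      (Localization.AtPrime P)).1 (show π ∈ q.map (algebraMap A (Localization.AtPrime P)) by
        rw [hπ]; exact Submodule.mem_span_singleton_self π)
    dsimp only at hgt
    have hloc : ∀ z ∈ q, ∃ t ∉ P, g ∣ t * z := by
      intro z hz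
      have := Ideal.mem_map_of_mem (algebraMap A (Localization.AtPrime P)) hz
      rw [hπ] at this
      obtain ⟨c, hc⟩ := Submodule.mem_span_singleton.1 this
      obtain ⟨⟨c, v⟩, rfl⟩ := IsLocalization.mk'_surjective P.primeCompl c
      refine ⟨(v : A) * (t : A), P.primeCompl.mul_mem v.2 t.2, c, ?_⟩
      apply IsLocalization.injective (Localization.AtPrime P) P.primeCompl_le_nonZeroDivisors
      have hv := IsLocalization.mk'_spec (Localization.AtPrime P) c v
      simp only [smul_eq_mul] at hc
      simp only [map_mul]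
      rw [← hgt, ← hc, ← hv]
      ring
    choose! t' ht' hdvd using hloc
    obtain ⟨T, hT⟩ := IsNoetherian.noetherian q
    have hTq : ∀ z ∈ T, z ∈ q := fun z hz => hT ▸ Submodule.subset_span hz
    refine isPrincipal_of_smul_le P q hprime h1 (∏ z ∈ T, t' z) ?_ g hg fun z hz => ?_
    · exact prod_mem (S := P.primeCompl) fun z hz => ht' z (hTq z hz)
    · rw [← hT] at hz
      induction hz using Submodule.span_induction with
      | mem z hz =>
        exact (hdvd z (hTq z hz)).trans (mul_dvd_mul_right (Finset.dvd_prod_of_mem t' hz) _)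
      | zero => simp
      | add x y _ _ hx hy => rw [mul_add]; exact dvd_add hx hy
      | smul a x _ hx => rw [smul_eq_mul, mul_left_comm]; exact hx.mul_left a
  · obtain ⟨a, ha, haP⟩ := SetLike.not_le_iff_exists.1 hqP
    suffices ∀ a : A, a ∉ P → a ∈ q → q.IsPrincipal from this a haP ha
    intro a
    induction a using WfDvdMonoid.induction_on_irreducible with
    | zero => exact fun h => absurd P.zero_mem h
    | unit u hu => exact fun _ h => absurd (Ideal.eq_top_of_isUnit_mem _ h hu) hq.ne_top
    | mul b p _ hp ih =>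
      intro hs hmem
      have hpP : p ∉ P := fun h => hs (Ideal.mul_mem_right _ _ h)
      rcases hq.mem_or_mem hmem with h | h
      · exact ⟨p, q.eq_span_singleton_of_height_eq_one h1 h (hprime p hpP hp)⟩
      · exact ih (fun h' => hs (Ideal.mul_mem_left _ _ h')) h

variable {R : Type u} [CommRing R]

lemma edge_eqn' {r : R} {I : Ideal R} (hr : r ∈ I) (i : Fin 2) : edge I i (eqn r) = 0 := by
  rw [eqn, map_sub, map_mul, edge_C, Ideal.Quotient.eq_zero_iff_mem.2 hr, map_zero, sub_zero]
  fin_cases i
  · simp [edge_X_of_ne I (i := 0) (j := 1) (by decide)]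
  · simp [edge_X_of_ne I (i := 1) (j := 0) (by decide)]

/-- The map to the `y`-branch modulo `I`. -/
def branch {r : R} (I : Ideal R) (hr : r ∈ I) : SeriesModel r →+* PowerSeries (R ⧸ I) :=
  Ideal.Quotient.lift _ (edge I 1) (fun a ha => by
    obtain ⟨w, rfl⟩ := Ideal.mem_span_singleton'.1 ha
    rw [map_mul, edge_eqn' hr, mul_zero])

lemma branch_mk {r : R} (I : Ideal R) (hr : r ∈ I) (G : MvPowerSeries (Fin 2) R) :
    branch I hr (Ideal.Quotient.mk _ G) = edge I 1 G := Ideal.Quotient.lift_mk _ _ _

lemma branch_C {r : R} (I : Ideal R) (hr : r ∈ I) (a : R) :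
    branch I hr (Ideal.Quotient.mk _ (C a)) = PowerSeries.C (Ideal.Quotient.mk I a) := by
  rw [branch_mk, edge_C]

lemma ker_branch_le {r : R} {I J : Ideal R} (hI : r ∈ I) (hJ : r ∈ J) (h : I ≤ J) :
    RingHom.ker (branch I hI) ≤ RingHom.ker (branch J hJ) := by
  intro z hz
  obtain ⟨G, rfl⟩ := Ideal.Quotient.mk_surjective z
  rw [RingHom.mem_ker, branch_mk] at hz ⊢
  refine PowerSeries.ext fun q => ?_
  have := congrArg (PowerSeries.coeff q) hz
  rw [coeff_edge, map_zero, Ideal.Quotient.eq_zero_iff_mem] at this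
  rw [coeff_edge, map_zero, Ideal.Quotient.eq_zero_iff_mem]
  exact h this

lemma mem_ker_branch_C {r : R} (I : Ideal R) (hr : r ∈ I) (a : R) :
    Ideal.Quotient.mk _ (C a) ∈ RingHom.ker (branch I hr) ↔ a ∈ I := by
  rw [RingHom.mem_ker, branch_C, ← map_zero PowerSeries.C, PowerSeries.C_injective.eq_iff,
    Ideal.Quotient.eq_zero_iff_mem]

/-- Every series is a combination of `x`, a given set of generators of `I`, modulo the `y`-branch. -/
lemma ker_branch_eq {r : R} [IsNoetherianRing R] {I : Ideal R} (hr : r ∈ I) {n : ℕ} (g : Fin n → R)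
    (hg : Ideal.span (Set.range g) = I) :
    RingHom.ker (branch I hr) = Ideal.span ({Ideal.Quotient.mk _ (X 0)} ∪
      Set.range fun i => Ideal.Quotient.mk (Ideal.span {eqn r}) (C (g i))) := by
  classical
  refine le_antisymm (fun z hz => ?_) (Ideal.span_le.2 ?_)
  · obtain ⟨G, rfl⟩ := Ideal.Quotient.mk_surjective z
    rw [RingHom.mem_ker, branch_mk] at hz
    have hcoef : ∀ q, ∃ c : Fin n → R, ∑ i, c i * g i = coeff (Finsupp.single 1 q) G := fun q => by
      have := congrArg (PowerSeries.coeff q) hz
      rw [coeff_edge, map_zero, Ideal.Quotient.eq_zero_iff_mem, ← hg] at this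
      exact Ideal.mem_span_range_iff_exists_fun.1 this
    choose c hc using hcoef
    set H : MvPowerSeries (Fin 2) R := fun m => coeff (m + Finsupp.single 0 1) G with hH
    set E : Fin n → MvPowerSeries (Fin 2) R := fun i m => if m 0 = 0 then c (m 1) i else 0 with hE
    have key : G = X 0 * H + ∑ i, C (g i) * E i := by
      refine MvPowerSeries.ext fun m => ?_
      rw [map_add, map_sum, X_def, coeff_monomial_mul, one_mul]
      simp only [coeff_C_mul]
      by_cases hm : m 0 = 0
      · rw [if_neg (by simp [Finsupp.single_le_iff, hm]), zero_add]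
        have h1 : Finsupp.single (1 : Fin 2) (m 1) = m := Finsupp.ext fun k => by
          fin_cases k <;> simp [hm]
        have h2 := hc (m 1)
        rw [h1] at h2
        rw [← h2]
        refine Finset.sum_congr rfl fun i _ => ?_
        show c (m 1) i * g i = g i * (if m 0 = 0 then c (m 1) i else 0)
        rw [if_pos hm, mul_comm]
      · have hle : Finsupp.single (0 : Fin 2) 1 ≤ m := by rw [Finsupp.single_le_iff]; omega
        rw [if_pos hle, Finset.sum_eq_zero fun i _ => ?_, add_zero]
        · show _ = coeff (m - Finsupp.single 0 1 + Finsupp.single 0 1) G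
          rw [tsub_add_cancel_of_le hle]
        · show g i * (if m 0 = 0 then c (m 1) i else 0) = 0
          rw [if_neg hm, mul_zero]
    rw [key, map_add, map_mul, map_sum]
    refine add_mem (Ideal.mul_mem_right _ _ (Ideal.subset_span (Or.inl rfl)))
      (Ideal.sum_mem _ fun i _ => ?_)
    rw [map_mul]
    exact Ideal.mul_mem_right _ _ (Ideal.subset_span (Or.inr ⟨i, rfl⟩))
  · rintro z (rfl | ⟨i, rfl⟩)
    · rw [SetLike.mem_coe, RingHom.mem_ker, branch_mk, edge_X_of_ne _ (by decide)]
    · rw [SetLike.mem_coe, mem_ker_branch_C, ← hg]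
      exact Ideal.subset_span ⟨i, rfl⟩

variable [IsRegularLocalRing R] [IsAdicComplete (maximalIdeal R) R] {r : R}

/-- The localisation at the generic point of the `y`-branch is regular. -/
lemma isRegular_branch [IsDomain (SeriesModel r)] (hr : r ∈ maximalIdeal R) (hr0 : r ≠ 0)
    [(RingHom.ker (branch (maximalIdeal R) hr)).IsPrime] :
    IsRegularLocalRing (Localization.AtPrime (RingHom.ker (branch (maximalIdeal R) hr))) := by
  classical
  haveI : IsDomain R := RegLocal.isDomain R
  set P := RingHom.ker (branch (maximalIdeal R) hr) with hP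
  set L := Localization.AtPrime P
  set d := (maximalIdeal R).spanFinrank with hd
  obtain ⟨g, hg⟩ := RegLocal.exists_generators R
  -- the maximal ideal is generated by the parameters of `R`
  set mkA := Ideal.Quotient.mk (Ideal.span {eqn r})
  have hy : mkA (X 1) ∉ P := by
    rw [hP, RingHom.mem_ker, branch_mk, edge_X]; exact PowerSeries.X_ne_zero
  have hu : IsUnit (algebraMap (SeriesModel r) L (mkA (X 1))) :=
    IsLocalization.map_units L (⟨_, hy⟩ : P.primeCompl)
  have hm : maximalIdeal L = Ideal.span (Set.range fun i => algebraMap (SeriesModel r) L (mkA (C (g i)))) := by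
    rw [← Localization.AtPrime.map_eq_maximalIdeal]
    refine (congrArg (Ideal.map (algebraMap (SeriesModel r) L)) (ker_branch_eq hr g hg)).trans ?_
    rw [Ideal.map_span, Set.image_union, Set.image_singleton, ← Set.range_comp, Ideal.span_union]
    refine sup_eq_right.2 ((Ideal.span_singleton_le_iff_mem _).2 ?_)
    refine (Ideal.mul_unit_mem_iff_mem _ hu).1 ?_
    have hxy : mkA (X 0) * mkA (X 1) = mkA (C r) := by
      rw [← map_mul, Ideal.Quotient.eq]; exact Ideal.subset_span rfl
    rw [← map_mul, hxy]
    obtain ⟨c, hc⟩ := Ideal.mem_span_range_iff_exists_fun.1 (show r ∈ Ideal.span (Set.range g) from hg.symm ▸ hr)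
    rw [show (C r : MvPowerSeries (Fin 2) R) = C (∑ i, c i * g i) from congrArg C hc.symm]
    simp only [map_sum, map_mul]
    exact Ideal.sum_mem _ fun i _ => Ideal.mul_mem_left _ _ (Ideal.subset_span ⟨i, rfl⟩)
  refine IsRegularLocalRing.of_spanFinrank_maximalIdeal_le L ?_
  have hfin : (maximalIdeal L).spanFinrank ≤ d := by
    rw [hm]
    refine (Submodule.spanFinrank_span_le_ncard_of_finite (Set.finite_range _)).trans ?_
    rw [← Set.image_univ]
    exact (Set.ncard_image_le Set.finite_univ).trans (by simp [Set.ncard_univ, hd])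
  refine le_trans (b := ((d : ℕ) : WithBot ℕ∞)) (Nat.cast_le.2 hfin) ?_
  rw [IsLocalization.AtPrime.ringKrullDim_eq_height P L]
  -- a chain of length `d` below `P`
  haveI : IsLocalRing (R ⧸ Ideal.span {r}) :=
    RegLocal.isLocalRing_quot (by rwa [Ne, Ideal.span_singleton_eq_top])
  have hdim : ringKrullDim (R ⧸ Ideal.span {r}) + 1 = d := by
    rw [ringKrullDim_quotient_span_singleton_succ_eq_ringKrullDim_of_mem_nonZeroDivisors
      (mem_nonZeroDivisors_of_ne_zero hr0) hr,
      ← (isRegularLocalRing_iff R).1 inferInstance]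
  obtain ⟨e, he⟩ := RegLocal.exists_nat_ringKrullDim (R := R ⧸ Ideal.span {r})
  rw [he] at hdim
  have hde : d = e + 1 := by exact_mod_cast hdim.symm
  obtain ⟨l, hl⟩ := Order.le_krullDim_iff.1 (le_of_eq he.symm)
  set J : PrimeSpectrum (R ⧸ Ideal.span {r}) → Ideal R := fun x =>
    x.asIdeal.comap (Ideal.Quotient.mk _) with hJ
  have hJr : ∀ x, r ∈ J x := fun x => by
    rw [hJ, Ideal.mem_comap, Ideal.Quotient.eq_zero_iff_mem.2 (Ideal.mem_span_singleton_self r)]
    exact zero_mem _
  have hJm : ∀ x, J x ≤ maximalIdeal R := fun x =>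
    le_maximalIdeal (Ideal.IsPrime.comap (Ideal.Quotient.mk (Ideal.span {r}))).ne_top
  have hprime : ∀ x, (RingHom.ker (branch (J x) (hJr x))).IsPrime := fun x => by
    haveI : (J x).IsPrime := Ideal.IsPrime.comap _
    exact RingHom.ker_isPrime _
  let f : PrimeSpectrum (R ⧸ Ideal.span {r}) → PrimeSpectrum (SeriesModel r) :=
    fun x => ⟨RingHom.ker (branch (J x) (hJr x)), hprime x⟩
  have hf : StrictMono f := fun x y hxy => by
    have hle : J x ≤ J y := Ideal.comap_mono hxy.le
    refine lt_of_le_of_ne (ker_branch_le (hJr x) (hJr y) hle) fun he => hxy.ne ?_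
    have hJe : J x = J y := Ideal.ext fun a => by
      rw [← mem_ker_branch_C (J x) (hJr x), ← mem_ker_branch_C (J y) (hJr y)]
      exact iff_of_eq (congrArg (fun z : PrimeSpectrum (SeriesModel r) => mkA (C a) ∈ z.asIdeal) he)
    exact PrimeSpectrum.ext (Ideal.comap_injective_of_surjective _ Ideal.Quotient.mk_surjective hJe)
  let b : PrimeSpectrum (SeriesModel r) := ⟨⊥, Ideal.isPrime_bot⟩
  have hb : b < (l.map f hf).head := by
    refine lt_of_le_of_ne bot_le fun heq => ?_
    have h1 : mkA (C r) ∈ (l.map f hf).head.asIdeal := (mem_ker_branch_C _ (hJr l.head) r).2 (hJr _)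
    rw [← heq] at h1
    have h2 : C r - C 0 ∈ Ideal.span {eqn r} := by
      rw [map_zero, sub_zero]; exact Ideal.Quotient.eq_zero_iff_mem.1 (Ideal.mem_bot.1 h1)
    have := d_congr hr h2 0
    rw [d_C, d_C, if_pos rfl, if_pos rfl] at this
    exact hr0 this
  have hlen := Order.length_le_height (p := (l.map f hf).cons b hb) (x := (⟨P, ‹_›⟩ : PrimeSpectrum _))
    (by
      rw [RelSeries.last_cons]
      exact ker_branch_le (hJr l.last) hr (hJm _))
  rw [show P.height = Order.height (⟨P, ‹_›⟩ : PrimeSpectrum (SeriesModel r)) from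
    PrimeSpectrum.height_eq_orderHeight ⟨P, ‹_›⟩]
  have hL : ((l.map f hf).cons b hb).length = d := by
    rw [RelSeries.cons_length, hde, ← hl]; rfl
  rw [hL] at hlen
  exact_mod_cast hlen

omit [IsAdicComplete (maximalIdeal R) R] in
/-- `R[[x]]` is regular. -/
lemma isRegular_powerSeries : IsRegularLocalRing (PowerSeries R) := by
  classical
  haveI : IsDomain R := RegLocal.isDomain R
  obtain ⟨d, hd⟩ : ∃ d, d = (maximalIdeal R).spanFinrank := ⟨_, rfl⟩
  obtain ⟨g, hg⟩ : ∃ g : Fin d → R, Ideal.span (Set.range g) = maximalIdeal R :=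
    hd ▸ RegLocal.exists_generators R
  let G : Option (Fin d) → PowerSeries R := fun o => o.elim PowerSeries.X fun i => PowerSeries.C (g i)
  have hm : maximalIdeal (PowerSeries R) = Ideal.span (Set.range G) := by
    refine le_antisymm (fun f hf => ?_) (Ideal.span_le.2 ?_)
    · have hc : PowerSeries.constantCoeff f ∈ maximalIdeal R := by
        rw [mem_maximalIdeal, mem_nonunits_iff] at hf ⊢
        rwa [PowerSeries.isUnit_iff_constantCoeff] at hf
      rw [← hg] at hc
      obtain ⟨c, hc⟩ := Ideal.mem_span_range_iff_exists_fun.1 hc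
      obtain ⟨t, ht⟩ : PowerSeries.X ∣ f - PowerSeries.C (PowerSeries.constantCoeff f) := by
        rw [PowerSeries.X_dvd_iff, map_sub, PowerSeries.constantCoeff_C, sub_self]
      rw [show f = PowerSeries.X * t + PowerSeries.C (PowerSeries.constantCoeff f) by
        rw [← ht, sub_add_cancel], ← hc, map_sum]
      refine add_mem (Ideal.mul_mem_right _ _ (Ideal.subset_span ⟨none, rfl⟩))
        (Ideal.sum_mem _ fun i _ => ?_)
      rw [map_mul]
      exact Ideal.mul_mem_left _ _ (Ideal.subset_span ⟨some i, rfl⟩)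
    · rintro _ ⟨o, rfl⟩
      rw [SetLike.mem_coe, mem_maximalIdeal, mem_nonunits_iff, PowerSeries.isUnit_iff_constantCoeff]
      rcases o with _ | i
      · simp [G]
      · have : g i ∈ maximalIdeal R := hg ▸ Ideal.subset_span ⟨i, rfl⟩
        simpa [G] using this
  refine IsRegularLocalRing.of_spanFinrank_maximalIdeal_le _
    (le_trans (b := ((d + 1 : ℕ) : WithBot ℕ∞)) (Nat.cast_le.2 ?_) ?_)
  · rw [hm]
    refine (Submodule.spanFinrank_span_le_ncard_of_finite (Set.finite_range _)).trans ?_
    rw [← Set.image_univ]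
    exact (Set.ncard_image_le Set.finite_univ).trans (by simp [Set.ncard_univ])
  · have h := ringKrullDim_succ_le_of_surjective (PowerSeries.constantCoeff (R := R))
      (fun x => ⟨PowerSeries.C x, by simp⟩) (r := PowerSeries.X)
      (mem_nonZeroDivisors_of_ne_zero PowerSeries.X_ne_zero) PowerSeries.constantCoeff_X
    refine le_trans (le_of_eq ?_) h
    rw [← (isRegularLocalRing_iff R).1 inferInstance, Nat.cast_add, Nat.cast_one, hd]

/-- `R[[x, y]]/(xy - r)` is factorial for `r` prime. -/
theorem ufd_seriesModel (hr : Prime r) :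
    IsDomain (SeriesModel r) ∧ UniqueFactorizationMonoid (SeriesModel r) := by
  classical
  haveI : IsDomain R := RegLocal.isDomain R
  haveI : UniqueFactorizationMonoid R := RegLocal.ufd R
  have hrm : r ∈ maximalIdeal R := hr.not_isUnit
  haveI := isDomain_quot hrm hr.ne_zero
  refine ⟨inferInstance, ?_⟩
  -- `R[[x]]` is regular, hence factorial
  haveI := isRegular_powerSeries (R := R)
  haveI : UniqueFactorizationMonoid (PowerSeries R) := RegLocal.ufd _
  haveI := isDomain_polyModel (r := r) hr.ne_zero
  haveI := ufd_polyModel (r := r) hr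
  haveI : (RingHom.ker (branch (maximalIdeal R) hrm)).IsPrime := RingHom.ker_isPrime _
  haveI := isRegular_branch (r := r) hrm hr.ne_zero
  haveI : UniqueFactorizationMonoid
      (Localization.AtPrime (RingHom.ker (branch (maximalIdeal R) hrm))) :=
    RegLocal.ufd (Localization.AtPrime (RingHom.ker (branch (maximalIdeal R) hrm)))
  refine ufd_of_localization (RingHom.ker (branch (maximalIdeal R) hrm)) fun a ha hirr => ?_
  obtain ⟨G, rfl⟩ := Ideal.Quotient.mk_surjective a
  have : ∃ j, coeff (Finsupp.single 1 j) G ∉ maximalIdeal R := by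
    by_contra hcon
    refine ha ?_
    rw [RingHom.mem_ker, branch_mk]
    refine PowerSeries.ext fun q => ?_
    rw [coeff_edge, map_zero, Ideal.Quotient.eq_zero_iff_mem]
    by_contra hq
    exact hcon ⟨q, hq⟩
  obtain ⟨j, hj⟩ := this
  exact prime_of_irreducible_of_coeff hirr hj

end Groth.Agent.NodeSeriesLib
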